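import Cfsg.Agent.H94.M22.Cor
import Cfsg.Prelude.Def_KGroupFacts

/-!
Stem extensions of perfect groups: from a cocycle with a commutator witness, and the common
cover of two stem extensions with kernels of coprime orders.
-/

set_option autoImplicit false

namespace Cfsg.Agent.H94.M22

open Cfsg
open scoped commutatorElement

lemma commutator_eq_top_of_simple {G : Type} [Group G] [IsSimpleGroup G]
    (h : ∃ a b : G, a * b ≠ b * a) : commutator G = ⊤ := by
  refine (Subgroup.Normal.eq_bot_or_eq_top inferInstance).resolve_left fun hbot => ?_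
  obtain ⟨a, b, hab⟩ := h
  refine hab (commutatorElement_eq_one_iff_mul_comm.1 ?_)
  have : ⁅a, b⁆ ∈ commutator G := Subgroup.commutator_mem_commutator (Subgroup.mem_top a)
    (Subgroup.mem_top b)
  rwa [hbot, Subgroup.mem_bot] at this

lemma exists_mem_commutator_map {Γ G : Type} [Group Γ] [Group G] (π : Γ →* G)
    (hπ : Function.Surjective π) (hG : commutator G = ⊤) (g : G) :
    ∃ d ∈ commutator Γ, π d = g := by
  have : (commutator Γ).map π = ⊤ := by
    rw [commutator_def, Subgroup.map_commutator, Subgroup.map_top_of_surjective π hπ,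
      ← commutator_def, hG]
  exact Subgroup.mem_map.1 (this ▸ Subgroup.mem_top g)

lemma commutator_self_of_perfect_quot {Γ G : Type} [Group Γ] [Group G] (π : Γ →* G)
    (hπ : Function.Surjective π) (hcen : π.ker ≤ Subgroup.center Γ) (hG : commutator G = ⊤) :
    commutator ↥(commutator Γ) = ⊤ := by
  refine top_le_iff.1 fun d _ => ?_
  have hle : commutator Γ ≤ (commutator ↥(commutator Γ)).map (commutator Γ).subtype := by
    conv_lhs => rw [commutator_def]
    rw [Subgroup.commutator_le]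
    intro a _ b _
    obtain ⟨d, hd, hd'⟩ := exists_mem_commutator_map π hπ hG (π a)
    obtain ⟨e, he, he'⟩ := exists_mem_commutator_map π hπ hG (π b)
    have hz : ∀ y, (a * d⁻¹) * y = y * (a * d⁻¹) := fun y =>
      (Subgroup.mem_center_iff.1 (hcen (MonoidHom.mem_ker.2
        (by rw [map_mul, map_inv, hd', mul_inv_cancel]))) y).symm
    have hw : ∀ y, (b * e⁻¹) * y = y * (b * e⁻¹) := fun y =>
      (Subgroup.mem_center_iff.1 (hcen (MonoidHom.mem_ker.2
        (by rw [map_mul, map_inv, he', mul_inv_cancel]))) y).symm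
    refine ⟨⁅(⟨d, hd⟩ : ↥(commutator Γ)), (⟨e, he⟩ : ↥(commutator Γ))⁆, ?_, ?_⟩
    · exact Subgroup.commutator_mem_commutator (Subgroup.mem_top _) (Subgroup.mem_top _)
    · rw [map_commutatorElement]
      show ⁅d, e⁆ = ⁅a, b⁆
      have key : ∀ z w p q : Γ, (∀ y, z * y = y * z) → (∀ y, w * y = y * w) →
          (z * p) * (w * q) = (z * w) * (p * q) := by
        intro z w p q hz hw
        calc (z * p) * (w * q) = z * (p * w) * q := by group
          _ = z * (w * p) * q := by rw [hw p]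
          _ = _ := by group
      have ea : a = (a * d⁻¹) * d := by group
      have eb : b = (b * e⁻¹) * e := by group
      have hab := key _ _ d e hz hw
      have hba := key _ _ e d hw hz
      rw [← ea, ← eb, hz (b * e⁻¹)] at hab
      rw [← ea, ← eb] at hba
      have last : ∀ Z p q : Γ, (∀ y, Z * y = y * Z) → Z * p * (Z * q)⁻¹ = p * q⁻¹ := by
        intro Z p q hZ
        rw [hZ p, hZ q]
        group
      rw [commutatorElement_def, commutatorElement_def,
        show a * b * a⁻¹ * b⁻¹ = (a * b) * (b * a)⁻¹ by group, hab, hba,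
        last _ _ _ fun y => by rw [mul_assoc _ _ y, hz y, ← mul_assoc, hw y, mul_assoc]]
      group
  obtain ⟨z, hz, hz'⟩ := hle d.2
  obtain rfl : z = d := Subtype.ext hz'
  exact hz

theorem exists_stem_of_cocycle {G A : Type} [Group G] [AddCommGroup A] [Finite A]
    (K : Subgroup G) [Finite K] {c : G → G → A} (hc : IsCoc K c)
    {x y : K} (hxy : x * y = y * x) (hgen : ∀ a : A, ∃ n : ℤ, n • (c x y - c y x) = a) :
    ∃ (Γ : Type) (_ : Group Γ) (_ : Finite Γ) (σ : Γ →* K),
      IsStemExtension σ ∧ Nonempty (σ.ker ≃* Multiplicative A) := by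
  let e : Multiplicative A →* (CExt.proj (hc := hc)).ker :=
    (CExt.incl (hc := hc)).codRestrict _ CExt.incl_mem_ker
  have he : Function.Bijective e := CExt.incl_bijective
  refine ⟨CExt hc, inferInstance, inferInstance, CExt.proj, ⟨CExt.proj_surjective,
    CExt.ker_le_center, fun z hz => ?_⟩, ⟨(MulEquiv.ofBijective e he).symm⟩⟩
  obtain ⟨a, ha⟩ := he.2 ⟨z, hz⟩
  obtain ⟨n, hn⟩ := hgen a.toAdd
  have : z = ⁅(⟨0, x⟩ : CExt hc), (⟨0, y⟩ : CExt hc)⁆ ^ n := by
    rw [CExt.commutator_eq hxy, ← map_zpow, ← ofAdd_zsmul, hn]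
    exact (congrArg Subtype.val ha).symm
  rw [this]
  exact zpow_mem (Subgroup.commutator_mem_commutator (Subgroup.mem_top _) (Subgroup.mem_top _)) n

theorem exists_stem_prod {G Γ₁ Γ₂ A B : Type} [Group G] [Group Γ₁] [Group Γ₂] [Finite Γ₁]
    [Finite Γ₂] [CommGroup A] [CommGroup B] [Finite A] [Finite B]
    (hcop : Nat.Coprime (Nat.card A) (Nat.card B)) (hG : commutator G = ⊤)
    (σ₁ : Γ₁ →* G) (h₁ : IsStemExtension σ₁) (e₁ : σ₁.ker ≃* A)
    (σ₂ : Γ₂ →* G) (h₂ : IsStemExtension σ₂) (e₂ : σ₂.ker ≃* B) :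
    ∃ (Γ : Type) (_ : Group Γ) (_ : Finite Γ) (σ : Γ →* G),
      IsStemExtension σ ∧ Nonempty (σ.ker ≃* A × B) := by
  let F : Subgroup (Γ₁ × Γ₂) :=
    (σ₁.comp (MonoidHom.fst Γ₁ Γ₂)).eqLocus (σ₂.comp (MonoidHom.snd Γ₁ Γ₂))
  let π : F →* G := σ₁.comp ((MonoidHom.fst Γ₁ Γ₂).comp F.subtype)
  let p₁ : F →* Γ₁ := (MonoidHom.fst Γ₁ Γ₂).comp F.subtype
  let p₂ : F →* Γ₂ := (MonoidHom.snd Γ₁ Γ₂).comp F.subtype
  have hπ : ∀ f, σ₂ (p₂ f) = σ₁ (p₁ f) := fun f => f.2.symm
  have hp₁ : Function.Surjective p₁ := fun a => by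
    obtain ⟨b, hb⟩ := h₂.1 (σ₁ a)
    exact ⟨⟨(a, b), hb.symm⟩, rfl⟩
  have hp₂ : Function.Surjective p₂ := fun b => by
    obtain ⟨a, ha⟩ := h₁.1 (σ₂ b)
    exact ⟨⟨(a, b), ha⟩, rfl⟩
  have hπs : Function.Surjective π := h₁.1.comp hp₁
  have hcen : π.ker ≤ Subgroup.center F := by
    intro f hf
    rw [Subgroup.mem_center_iff]
    intro y
    refine Subtype.ext (Prod.ext ?_ ?_)
    · exact Subgroup.mem_center_iff.1 (h₁.2.1 (MonoidHom.mem_ker.2 (MonoidHom.mem_ker.1 hf))) _
    · exact Subgroup.mem_center_iff.1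
        (h₂.2.1 (MonoidHom.mem_ker.2 ((hπ f).trans (MonoidHom.mem_ker.1 hf)))) _
  let σ : ↥(commutator F) →* G := π.comp (commutator F).subtype
  have hσs : Function.Surjective σ := fun g => by
    obtain ⟨d, hd, hd'⟩ := exists_mem_commutator_map π hπs hG g
    exact ⟨⟨d, hd⟩, hd'⟩
  refine ⟨↥(commutator F), inferInstance, inferInstance, σ, ⟨hσs, fun z hz => ?_, ?_⟩, ?_⟩
  · rw [Subgroup.mem_center_iff]
    exact fun y => Subtype.ext (Subgroup.mem_center_iff.1 (hcen (MonoidHom.mem_ker.2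
      (MonoidHom.mem_ker.1 hz))) _)
  · rw [commutator_self_of_perfect_quot π hπs hcen hG]
    exact le_top
  let q₁ : σ.ker →* σ₁.ker :=
    (p₁.comp ((commutator F).subtype.comp σ.ker.subtype)).codRestrict _ fun z => z.2
  let q₂ : σ.ker →* σ₂.ker :=
    (p₂.comp ((commutator F).subtype.comp σ.ker.subtype)).codRestrict _ fun z =>
      (hπ _).trans z.2
  have hq₁ : Function.Surjective q₁ := fun ⟨a, ha⟩ => by
    have hm : a ∈ (commutator F).map p₁ := by
      rw [commutator_def, Subgroup.map_commutator, Subgroup.map_top_of_surjective p₁ hp₁]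
      exact h₁.2.2 ha
    obtain ⟨f, hf, rfl⟩ := hm
    exact ⟨⟨⟨f, hf⟩, ha⟩, rfl⟩
  have hq₂ : Function.Surjective q₂ := fun ⟨b, hb⟩ => by
    have hm : b ∈ (commutator F).map p₂ := by
      rw [commutator_def, Subgroup.map_commutator, Subgroup.map_top_of_surjective p₂ hp₂]
      exact h₂.2.2 hb
    obtain ⟨f, hf, rfl⟩ := hm
    exact ⟨⟨⟨f, hf⟩, (hπ f).symm.trans hb⟩, rfl⟩
  let Q : σ.ker →* A × B := (e₁.toMonoidHom.comp q₁).prod (e₂.toMonoidHom.comp q₂)
  have hinj : Function.Injective Q := fun z w h => by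
    have a1 := e₁.injective (congrArg Prod.fst h)
    have a2 := e₂.injective (congrArg Prod.snd h)
    exact Subtype.ext (Subtype.ext (Subtype.ext
      (Prod.ext (congrArg Subtype.val a1) (congrArg Subtype.val a2))))
  refine ⟨MulEquiv.ofBijective Q (hinj.bijective_of_nat_card_le ?_)⟩
  rw [Nat.card_prod]
  refine Nat.le_of_dvd Nat.card_pos (hcop.mul_dvd_of_dvd_of_dvd ?_ ?_)
  · exact Subgroup.card_dvd_of_surjective (e₁.toMonoidHom.comp q₁) (e₁.surjective.comp hq₁)
  · exact Subgroup.card_dvd_of_surjective (e₂.toMonoidHom.comp q₂) (e₂.surjective.comp hq₂)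

end Cfsg.Agent.H94.M22
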