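import Cfsg.Agent.H94.M22.LowerDefs

/-!
Evaluation of the cocycle identity, first half.
-/

set_option autoImplicit false
set_option Elab.async false

namespace Cfsg.Agent.H94.M22

open Cfsg.Agent.Golay

theorem checkAssoc_ok0 : checkAssoc 0 8 = true := by decide +kernel

theorem checkAssoc_ok1 : checkAssoc 8 8 = true := by decide +kernel

theorem checkAssoc_ok2 : checkAssoc 16 8 = true := by decide +kernel

theorem checkAssoc_ok3 : checkAssoc 24 8 = true := by decide +kernel

theorem checkAssoc_ok4 : checkAssoc 32 8 = true := by decide +kernel

theorem checkAssoc_ok5 : checkAssoc 40 8 = true := by decide +kernel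

theorem checkAssoc_ok6 : checkAssoc 48 8 = true := by decide +kernel

theorem checkAssoc_ok7 : checkAssoc 56 8 = true := by decide +kernel

end Cfsg.Agent.H94.M22
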