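import Cfsg.Agent.H94.M22.LowerDefs

/-!
Evaluation of the cocycle identity, second half.
-/

set_option autoImplicit false
set_option Elab.async false

namespace Cfsg.Agent.H94.M22

open Cfsg.Agent.Golay

theorem checkAssoc_ok8 : checkAssoc 64 8 = true := by decide +kernel

theorem checkAssoc_ok9 : checkAssoc 72 8 = true := by decide +kernel

theorem checkAssoc_ok10 : checkAssoc 80 8 = true := by decide +kernel

theorem checkAssoc_ok11 : checkAssoc 88 8 = true := by decide +kernel

theorem checkAssoc_ok12 : checkAssoc 96 8 = true := by decide +kernel

theorem checkAssoc_ok13 : checkAssoc 104 8 = true := by decide +kernel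

theorem checkAssoc_ok14 : checkAssoc 112 8 = true := by decide +kernel

theorem checkAssoc_ok15 : checkAssoc 120 8 = true := by decide +kernel

end Cfsg.Agent.H94.M22
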