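import Cfsg.Agent.H94.M22.LowerDefs

/-!
Evaluation of the tables of the Sylow 2-subgroup.
-/

set_option autoImplicit false
set_option Elab.async false

namespace Cfsg.Agent.H94.M22

open Cfsg.Agent.Golay

theorem checkP_ok : checkP = true := by decide +kernel

end Cfsg.Agent.H94.M22
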