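import Cfsg.Agent.H94.M22.LowerDefs
import Cfsg.Agent.H94.M22.CertTwo
import Cfsg.Agent.H94.M22.CertThree

/-!
Evaluation of the transferred values.
-/

set_option autoImplicit false
set_option Elab.async false

namespace Cfsg.Agent.H94.M22

open Cfsg.Agent.Golay

theorem certSum_two : certSum 77 45 pCoc certX4 certY4 = 4068 ∧ certSum 77 45 pCoc certY4 certX4 = 4099 := by decide +kernel

theorem certSum_three : certSum 77 40 rotF certX3 certY3 = 3015 ∧ certSum 77 40 rotF certY3 certX3 = 3100 := by decide +kernel

end Cfsg.Agent.H94.M22
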