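import Cfsg.Agent.H94.M22.LowerDefs
import Cfsg.Agent.H94.M22.CertThree

/-!
Evaluation of a coset certificate.
-/

set_option autoImplicit false
set_option Elab.async false

namespace Cfsg.Agent.H94.M22

open Cfsg.Agent.Golay

theorem certX3_outer : outerOK octO F22 tTop x3 certX3 = true := by decide +kernel

theorem certX3_inner0 : certX30.all (innerOK tThree id okRot) = true := by decide +kernel

theorem certX3_inner1 : certX31.all (innerOK tThree id okRot) = true := by decide +kernel

theorem certX3_inner2 : certX32.all (innerOK tThree id okRot) = true := by decide +kernel

end Cfsg.Agent.H94.M22
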