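import Cfsg.Agent.H94.M22.LowerDefs

/-!
Evaluation of the transversal of the Sylow 2-subgroup.
-/

set_option autoImplicit false
set_option Elab.async false

namespace Cfsg.Agent.H94.M22

open Cfsg.Agent.Golay

theorem checkTwo_ok : checkTwo = true := by decide +kernel

theorem checkTwoInj_ok0 : checkTwoInj 0 23 = true := by decide +kernel

theorem checkTwoInj_ok1 : checkTwoInj 23 22 = true := by decide +kernel

end Cfsg.Agent.H94.M22
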