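import Cfsg.Agent.H94.M22.LowerDefs
import Cfsg.Agent.H94.M22.CertTwo

/-!
Evaluation of a coset certificate.
-/

set_option autoImplicit false
set_option Elab.async false

namespace Cfsg.Agent.H94.M22

open Cfsg.Agent.Golay

theorem certX4_outer : outerOK octO F22 tTop x4 certX4 = true := by decide +kernel

theorem certX4_inner0 : certX40.all (innerOK tTwo pEl okP) = true := by decide +kernel

theorem certX4_inner1 : certX41.all (innerOK tTwo pEl okP) = true := by decide +kernel

theorem certX4_inner2 : certX42.all (innerOK tTwo pEl okP) = true := by decide +kernel

end Cfsg.Agent.H94.M22
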