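import Cfsg.Agent.H94.M22.UpperData

/-!
Evaluation of the certificate for the 2-part of the multiplier of `M22`.
-/

set_option autoImplicit false
set_option Elab.async false

namespace Cfsg.Agent.H94.M22

theorem upper22_Tables : upper22.checkTables = true := by decide +kernel

theorem upper22_Group : upper22.checkGroup = true := by decide +kernel

theorem upper22_Forms : upper22.checkForms = true := by decide +kernel

end Cfsg.Agent.H94.M22
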