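import Mathlib

/-!
Two-cocycles on subgroups with trivial coefficients, their transfer to an overgroup along an
explicit transversal, and the central extension defined by a cocycle.
-/

set_option autoImplicit false

namespace Cfsg.Agent.H94.M22

open scoped commutatorElement

variable {G : Type} [Group G] {A : Type} [AddCommGroup A]

/-- The cocycle identity on a subgroup. -/
def IsCoc (H : Subgroup G) (c : G → G → A) : Prop :=
  ∀ a ∈ H, ∀ b ∈ H, ∀ k ∈ H, c a b + c (a * b) k = c b k + c a (b * k)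

/-- An indexed transversal of `H` in `K`. -/
structure IsTrans {ι : Type} (H K : Subgroup G) (T : ι → G) : Prop where
  le : H ≤ K
  mem : ∀ i, T i ∈ K
  inj : ∀ i j, (T i)⁻¹ * T j ∈ H → i = j
  ex : ∀ g ∈ K, ∃ i, (T i)⁻¹ * g ∈ H

section

variable {ι : Type} {H K : Subgroup G} {T : ι → G}

lemma bij_of_mem (hle : H ≤ K) (hmem : ∀ i, T i ∈ K)
    (hinj : ∀ i j, (T i)⁻¹ * T j ∈ H → i = j) :
    Function.Injective fun p : ι × H => (⟨T p.1 * p.2, mul_mem (hmem _) (hle p.2.2)⟩ : K) := by
  rintro ⟨i, a⟩ ⟨j, b⟩ h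
  have e : T i * a = T j * (b : G) := congrArg Subtype.val h
  have e' : (T i)⁻¹ * T j = (a : G) * (b : G)⁻¹ := by
    rw [inv_mul_eq_iff_eq_mul, ← mul_assoc, e, mul_inv_cancel_right]
  obtain rfl := hinj i j (e' ▸ mul_mem a.2 (inv_mem b.2))
  simpa using e

lemma IsTrans.card_eq (h : IsTrans H K T) : Nat.card K = Nat.card ι * Nat.card H := by
  rw [← Nat.card_prod]
  refine (Nat.card_eq_of_bijective _ ⟨bij_of_mem h.le h.mem h.inj, fun g => ?_⟩).symm
  obtain ⟨i, hi⟩ := h.ex g g.2
  exact ⟨⟨i, ⟨_, hi⟩⟩, Subtype.ext (by simp)⟩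

lemma IsTrans.of_card [Finite K] (hle : H ≤ K) (hmem : ∀ i, T i ∈ K)
    (hinj : ∀ i j, (T i)⁻¹ * T j ∈ H → i = j) (hc : Nat.card K = Nat.card ι * Nat.card H) :
    IsTrans H K T := by
  refine ⟨hle, hmem, hinj, fun g hg => ?_⟩
  have hb := (bij_of_mem hle hmem hinj).bijective_of_nat_card_le
    (le_of_eq (by rw [Nat.card_prod, hc]))
  obtain ⟨⟨i, a⟩, e⟩ := hb.2 ⟨g, hg⟩
  refine ⟨i, ?_⟩
  have e' : T i * (a : G) = g := congrArg Subtype.val e
  rw [← e', inv_mul_cancel_left]
  exact a.2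

variable (H T) [Nonempty ι]

/-- The index of the coset of `g`. -/
noncomputable def cidx (g : G) : ι := Classical.epsilon fun i => (T i)⁻¹ * g ∈ H

/-- The component in `H` of `g * T i`. -/
noncomputable def csec (g : G) (i : ι) : G := (T (cidx H T (g * T i)))⁻¹ * g * T i

/-- The transferred cochain. -/
noncomputable def cor [Fintype ι] (c : G → G → A) (g h : G) : A :=
  ∑ i, c (csec H T g (cidx H T (h * T i))) (csec H T h i)

variable {H T}

lemma cidx_spec (h : IsTrans H K T) {g : G} (hg : g ∈ K) : (T (cidx H T g))⁻¹ * g ∈ H :=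
  Classical.epsilon_spec (p := fun i => (T i)⁻¹ * g ∈ H) (h.ex g hg)

lemma cidx_eq (h : IsTrans H K T) {g : G} {i : ι} (hi : (T i)⁻¹ * g ∈ H) : cidx H T g = i := by
  have h2 : (T (cidx H T g))⁻¹ * g ∈ H :=
    Classical.epsilon_spec (p := fun i => (T i)⁻¹ * g ∈ H) ⟨i, hi⟩
  refine h.inj _ _ ?_
  have : (T (cidx H T g))⁻¹ * T i = ((T (cidx H T g))⁻¹ * g) * ((T i)⁻¹ * g)⁻¹ := by group
  rw [this]
  exact mul_mem h2 (inv_mem hi)

lemma csec_eq (h : IsTrans H K T) {g b : G} {i j : ι} (hb : b ∈ H) (e : T j * b = g * T i) :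
    cidx H T (g * T i) = j ∧ csec H T g i = b := by
  have hj : cidx H T (g * T i) = j := cidx_eq h (by rw [← e, inv_mul_cancel_left]; exact hb)
  refine ⟨hj, ?_⟩
  rw [csec, hj, mul_assoc, ← e, inv_mul_cancel_left]

lemma csec_mem (h : IsTrans H K T) {g : G} (hg : g ∈ K) (i : ι) : csec H T g i ∈ H := by
  rw [csec, mul_assoc]
  exact cidx_spec h (mul_mem hg (h.mem i))

theorem isCoc_cor [Fintype ι] (h : IsTrans H K T) {c : G → G → A} (hc : IsCoc H c) :
    IsCoc K (cor H T c) := by
  intro g hg f hf k hk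
  have step : ∀ x ∈ K, ∀ i, T (cidx H T (x * T i)) * csec H T x i = x * T i := fun x _ i => by
    rw [csec, mul_assoc, mul_inv_cancel_left]
  have hmul : ∀ x ∈ K, ∀ y ∈ K, ∀ i,
      cidx H T (x * y * T i) = cidx H T (x * T (cidx H T (y * T i))) ∧
      csec H T (x * y) i = csec H T x (cidx H T (y * T i)) * csec H T y i := by
    intro x hx y hy i
    refine csec_eq h (mul_mem (csec_mem h hx _) (csec_mem h hy _)) ?_
    rw [← mul_assoc, step x hx, mul_assoc, step y hy, ← mul_assoc]
  have hbij : Function.Bijective fun i => cidx H T (k * T i) := by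
    refine Finite.injective_iff_bijective.1 fun i j e => ?_
    refine h.inj _ _ ?_
    have e1 := step k hk i
    have e2 := step k hk j
    have : (T i)⁻¹ * T j = (csec H T k i)⁻¹ * csec H T k j := by
      rw [← e] at e2
      have e1' : T i = k⁻¹ * (T (cidx H T (k * T i)) * csec H T k i) := by
        rw [e1, inv_mul_cancel_left]
      have e2' : T j = k⁻¹ * (T (cidx H T (k * T i)) * csec H T k j) := by
        rw [e2, inv_mul_cancel_left]
      rw [e1', e2']
      group
    rw [this]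
    exact mul_mem (inv_mem (csec_mem h hk i)) (csec_mem h hk j)
  have hre : cor H T c g f = ∑ i, c (csec H T g (cidx H T (f * T (cidx H T (k * T i)))))
      (csec H T f (cidx H T (k * T i))) :=
    (hbij.sum_comp fun j => c (csec H T g (cidx H T (f * T j))) (csec H T f j)).symm
  rw [hre]
  simp only [cor, ← Finset.sum_add_distrib]
  refine Finset.sum_congr rfl fun i _ => ?_
  rw [(hmul f hf k hk i).1, (hmul f hf k hk i).2, (hmul g hg f hf _).2]
  exact hc _ (csec_mem h hg _) _ (csec_mem h hf _) _ (csec_mem h hk _)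

end

section

variable {K : Subgroup G} {c : G → G → A}

/-- The central extension of a cocycle. -/
structure CExt (hc : IsCoc K c) where
  v : A
  g : K

namespace CExt

variable {hc : IsCoc K c}

lemma ext' {x y : CExt hc} (h1 : x.v = y.v) (h2 : x.g = y.g) : x = y := by
  cases x; cases y; simp_all

lemma one_left (hc : IsCoc K c) (g : K) : c 1 g = c 1 1 := by
  have := hc 1 K.one_mem 1 K.one_mem g g.2
  simp only [one_mul] at this
  exact (add_right_cancel this).symm

lemma one_right (hc : IsCoc K c) (g : K) : c g 1 = c 1 1 := by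
  have := hc g g.2 1 K.one_mem 1 K.one_mem
  simp only [mul_one] at this
  exact add_right_cancel this

instance : Mul (CExt hc) := ⟨fun x y => ⟨x.v + y.v + c x.g y.g, x.g * y.g⟩⟩
instance : One (CExt hc) := ⟨⟨-c 1 1, 1⟩⟩
instance : Inv (CExt hc) := ⟨fun x => ⟨-x.v - c (x.g⁻¹ : K) x.g - c 1 1, x.g⁻¹⟩⟩

lemma mul_def (x y : CExt hc) : x * y = ⟨x.v + y.v + c x.g y.g, x.g * y.g⟩ := rfl
lemma one_def : (1 : CExt hc) = ⟨-c 1 1, 1⟩ := rfl

instance : Group (CExt hc) := by
  refine Group.ofLeftAxioms (fun x y z => ?_) (fun x => ?_) fun x => ?_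
  · refine ext' ?_ (mul_assoc _ _ _)
    have := hc x.g x.g.2 y.g y.g.2 z.g z.g.2
    show x.v + y.v + c x.g y.g + z.v + c ((x.g : G) * y.g) z.g
      = x.v + (y.v + z.v + c y.g z.g) + c x.g ((y.g : G) * z.g)
    calc _ = x.v + y.v + z.v + (c x.g y.g + c ((x.g : G) * y.g) z.g) := by abel
      _ = _ := by rw [this]; abel
  · refine ext' ?_ (one_mul _)
    show -c 1 1 + x.v + c 1 x.g = x.v
    rw [one_left hc]; abel
  · refine ext' ?_ (inv_mul_cancel _)
    show -x.v - c (x.g⁻¹ : K) x.g - c 1 1 + x.v + c (x.g⁻¹ : K) x.g = -c 1 1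
    abel

/-- The projection. -/
def proj : CExt hc →* K where
  toFun x := x.g
  map_one' := rfl
  map_mul' _ _ := rfl

lemma proj_surjective : Function.Surjective (proj (hc := hc)) := fun g => ⟨⟨0, g⟩, rfl⟩

instance [Finite A] [Finite K] : Finite (CExt hc) :=
  Finite.of_injective (fun x => (x.v, x.g)) fun _ _ h => ext' (congrArg Prod.fst h)
    (congrArg Prod.snd h)

/-- The coefficient group inside the kernel. -/
def incl : Multiplicative A →* CExt hc where
  toFun a := ⟨a.toAdd - c 1 1, 1⟩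
  map_one' := ext' (by show (0 : A) - c 1 1 = -c 1 1; abel) rfl
  map_mul' a b := ext' (by
    show a.toAdd + b.toAdd - c 1 1 = a.toAdd - c 1 1 + (b.toAdd - c 1 1) + c 1 1
    abel) (mul_one _).symm

lemma incl_mem_ker (a : Multiplicative A) : incl (hc := hc) a ∈ (proj (hc := hc)).ker := rfl

lemma incl_bijective : Function.Bijective fun a : Multiplicative A =>
    (⟨incl a, incl_mem_ker a⟩ : (proj (hc := hc)).ker) := by
  refine ⟨fun a b h => ?_, fun ⟨x, hx⟩ => ?_⟩
  · have : a.toAdd - c 1 1 = b.toAdd - c 1 1 := congrArg (fun z : (proj (hc := hc)).ker => z.1.v) h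
    exact Multiplicative.toAdd.injective (sub_left_injective this)
  · refine ⟨Multiplicative.ofAdd (x.v + c 1 1), Subtype.ext (ext' ?_ ?_)⟩
    · show x.v + c 1 1 - c 1 1 = x.v
      abel
    · exact hx.symm

lemma ker_le_center : (proj (hc := hc)).ker ≤ Subgroup.center (CExt hc) := by
  intro x hx
  rw [Subgroup.mem_center_iff]
  intro y
  have hx' : x.g = 1 := hx
  refine ext' ?_ (by show y.g * x.g = x.g * y.g; rw [hx', mul_one, one_mul])
  show y.v + x.v + c y.g x.g = x.v + y.v + c x.g y.g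
  rw [hx', show ((1 : K) : G) = 1 from rfl, one_left hc, one_right hc]
  abel

lemma commutator_eq {x y : K} (h : x * y = y * x) :
    ⁅(⟨0, x⟩ : CExt hc), (⟨0, y⟩ : CExt hc)⁆ = incl (hc := hc) (Multiplicative.ofAdd (c x y - c y x)) := by
  have e : (⟨0, x⟩ : CExt hc) * ⟨0, y⟩
      = incl (Multiplicative.ofAdd (c x y - c y x)) * (⟨0, y⟩ * ⟨0, x⟩) := by
    refine ext' ?_ (by show x * y = 1 * (y * x); rw [one_mul, h])
    show (0 : A) + 0 + c x y = c x y - c y x - c 1 1 + (0 + 0 + c y x) + c 1 ((y : G) * x)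
    rw [← Subgroup.coe_mul, one_left hc]
    abel
  rw [commutatorElement_def, e]
  group

end CExt

end

end Cfsg.Agent.H94.M22
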