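import Cfsg.Agent.H94.M22.Cor
import Cfsg.Agent.H94.M24.Search

/-!
Certificates for evaluating a twice transferred cocycle at a pair of permutation tables.
-/

set_option autoImplicit false

namespace Cfsg.Agent.H94.M22

open Cfsg Cfsg.Agent.Golay Cfsg.Agent.H94.M24

/-- The permutations of a list of tables. -/
noncomputable def tFun (T : List ℕ) (i : Fin T.length) : Equiv.Perm GolayPt :=
  mkPerm (T.getD i 0)

/-- A row of a certificate. -/
abbrev CRow := ℕ × ℕ × List (ℕ × ℕ)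

/-- The outer part of a certificate for the element `y`. -/
def outerOK (O F : ℕ) (T : List ℕ) (y : ℕ) (L : List CRow) : Bool :=
  (L.length == T.length) && (T.zip L).all fun p =>
    decide (p.2.1 < T.length) && inStab [O] F p.2.2.1 &&
      tblEq (tblMul (T.getD p.2.1 0) p.2.2.1) (tblMul y p.1)

/-- The inner part of a row. -/
def innerOK (S : List ℕ) (dec : ℕ → ℕ) (ok : ℕ → Bool) (r : CRow) : Bool :=
  (r.2.2.length == S.length) && (S.zip r.2.2).all fun p =>
    decide (p.2.1 < S.length) && ok p.2.2 &&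
      tblEq (tblMul (S.getD p.2.1 0) (dec p.2.2)) (tblMul r.2.1 p.1)

/-- The inner sum. -/
def innerSum (n : ℕ) (f : ℕ → ℕ → ℕ) (a b : List (ℕ × ℕ)) : ℕ :=
  ((List.range n).map fun s => f (a.getD (b.getD s (0, 0)).1 (0, 0)).2 (b.getD s (0, 0)).2).sum

/-- The value of the transfer. -/
def certSum (m n : ℕ) (f : ℕ → ℕ → ℕ) (X Y : List CRow) : ℕ :=
  ((List.range m).map fun i =>
    innerSum n f (X.getD (Y.getD i (0, 0, [])).1 (0, 0, [])).2.2
      (Y.getD i (0, 0, [])).2.2).sum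

lemma all_zip {α β : Type} {p : α × β → Bool} {A : List α} {B : List β} (da : α) (db : β)
    (hl : B.length = A.length) (h : (A.zip B).all p = true) {i : ℕ} (hi : i < A.length) :
    p (A.getD i da, B.getD i db) = true := by
  rw [List.all_eq_true] at h
  rw [List.getD_eq_getElem _ _ hi, List.getD_eq_getElem _ _ (hl.symm ▸ hi)]
  refine h _ ?_
  rw [List.mem_iff_getElem]
  exact ⟨i, by simp [hl, hi], by simp⟩

variable {n : ℕ} {O F : ℕ} {T S : List ℕ}

lemma outer_spec (hT : IsTrans (stabGrp [O] F) (stabGrp [] F) (tFun T))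
    (hTv : ∀ t ∈ T, validT t = true) [Nonempty (Fin T.length)] {y : ℕ} (hy : validT y = true)
    {L : List CRow} (h : outerOK O F T y L = true) (i : Fin T.length) :
    ∃ hj : (L.getD i (0, 0, [])).1 < T.length,
      cidx (stabGrp [O] F) (tFun T) (mkPerm y * tFun T i) = ⟨_, hj⟩ ∧
      csec (stabGrp [O] F) (tFun T) (mkPerm y) i = mkPerm (L.getD i (0, 0, [])).2.1 ∧
      mkPerm (L.getD i (0, 0, [])).2.1 ∈ stabGrp [O] F ∧
      validT (L.getD i (0, 0, [])).2.1 = true := by
  rw [outerOK, Bool.and_eq_true, beq_iff_eq] at h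
  have hp := all_zip 0 (0, 0, []) h.1 h.2 i.2
  simp only [Bool.and_eq_true, decide_eq_true_eq] at hp
  obtain ⟨⟨hj, hb⟩, he⟩ := hp
  have hv : ∀ k < T.length, validT (T.getD k 0) = true := fun k hk => by
    rw [List.getD_eq_getElem _ _ hk]
    exact hTv _ (List.getElem_mem _)
  have hbv : validT (L.getD i (0, 0, [])).2.1 = true := by
    unfold inStab at hb
    simp only [Bool.and_eq_true] at hb
    exact validT_of_inM24 hb.1.1
  rw [tblEq_iff (tblMul_spec (hv _ hj) hbv).1 (tblMul_spec hy (hv _ i.2)).1,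
    (tblMul_spec (hv _ hj) hbv).2, (tblMul_spec hy (hv _ i.2)).2] at he
  obtain ⟨h1, h2⟩ := csec_eq hT (g := mkPerm y) (j := ⟨_, hj⟩) (mem_stabGrp_of_inStab hb) he
  exact ⟨hj, h1, h2, mem_stabGrp_of_inStab hb, hbv⟩

variable {P : Subgroup (Equiv.Perm GolayPt)} {dec : ℕ → ℕ} {ok : ℕ → Bool}

lemma inner_spec (hS : IsTrans P (stabGrp [O] F) (tFun S))
    (hSv : ∀ s ∈ S, validT s = true) [Nonempty (Fin S.length)]
    (hdec : ∀ q, ok q = true → validT (dec q) = true)
    (hmem : ∀ q, ok q = true → mkPerm (dec q) ∈ stabGrp [O] F → mkPerm (dec q) ∈ P)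
    {r : CRow} (hr : validT r.2.1 = true) (hrH : mkPerm r.2.1 ∈ stabGrp [O] F)
    (h : innerOK S dec ok r = true) (i : Fin S.length) :
    ∃ hj : (r.2.2.getD i (0, 0)).1 < S.length,
      cidx P (tFun S) (mkPerm r.2.1 * tFun S i) = ⟨_, hj⟩ ∧
      csec P (tFun S) (mkPerm r.2.1) i = mkPerm (dec (r.2.2.getD i (0, 0)).2) ∧
      ok (r.2.2.getD i (0, 0)).2 = true := by
  rw [innerOK, Bool.and_eq_true, beq_iff_eq] at h
  have hp := all_zip 0 (0, 0) h.1 h.2 i.2
  simp only [Bool.and_eq_true, decide_eq_true_eq] at hp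
  obtain ⟨⟨hj, hb⟩, he⟩ := hp
  have hv : ∀ k < S.length, validT (S.getD k 0) = true := fun k hk => by
    rw [List.getD_eq_getElem _ _ hk]
    exact hSv _ (List.getElem_mem _)
  rw [tblEq_iff (tblMul_spec (hv _ hj) (hdec _ hb)).1 (tblMul_spec hr (hv _ i.2)).1,
    (tblMul_spec (hv _ hj) (hdec _ hb)).2, (tblMul_spec hr (hv _ i.2)).2] at he
  have hq : mkPerm (dec (r.2.2.getD i (0, 0)).2) ∈ stabGrp [O] F := by
    have := mul_mem (inv_mem (hS.mem ⟨_, hj⟩)) (mul_mem hrH (hS.mem i))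
    unfold tFun at this
    simpa only [← he, inv_mul_cancel_left] using this
  obtain ⟨h1, h2⟩ := csec_eq hS (g := mkPerm r.2.1) (j := ⟨_, hj⟩) (hmem _ hb hq) he
  exact ⟨hj, h1, h2, hb⟩

theorem cor_eq_certSum [Nonempty (Fin T.length)] [Nonempty (Fin S.length)]
    (hT : IsTrans (stabGrp [O] F) (stabGrp [] F) (tFun T)) (hTv : ∀ t ∈ T, validT t = true)
    (hS : IsTrans P (stabGrp [O] F) (tFun S)) (hSv : ∀ s ∈ S, validT s = true)
    (hdec : ∀ q, ok q = true → validT (dec q) = true)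
    (hmem : ∀ q, ok q = true → mkPerm (dec q) ∈ stabGrp [O] F → mkPerm (dec q) ∈ P)
    (c : Equiv.Perm GolayPt → Equiv.Perm GolayPt → ZMod n) (f : ℕ → ℕ → ℕ)
    (hf : ∀ p q, ok p = true → ok q = true → c (mkPerm (dec p)) (mkPerm (dec q)) = f p q)
    {x y : ℕ} (hx : validT x = true) (hy : validT y = true) {X Y : List CRow}
    (hX : outerOK O F T x X = true) (hY : outerOK O F T y Y = true)
    (hX' : X.all (innerOK S dec ok) = true) (hY' : Y.all (innerOK S dec ok) = true) :
    cor (stabGrp [O] F) (tFun T) (cor P (tFun S) c) (mkPerm x) (mkPerm y)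
      = certSum T.length S.length f X Y := by
  have hXl : X.length = T.length := by
    rw [outerOK, Bool.and_eq_true, beq_iff_eq] at hX; exact hX.1
  have hYl : Y.length = T.length := by
    rw [outerOK, Bool.and_eq_true, beq_iff_eq] at hY; exact hY.1
  rw [List.all_eq_true] at hX' hY'
  have hXr : ∀ i < T.length, innerOK S dec ok (X.getD i (0, 0, [])) = true := fun i hi => by
    rw [List.getD_eq_getElem _ _ (hXl.symm ▸ hi)]
    exact hX' _ (List.getElem_mem _)
  have hYr : ∀ i < T.length, innerOK S dec ok (Y.getD i (0, 0, [])) = true := fun i hi => by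
    rw [List.getD_eq_getElem _ _ (hYl.symm ▸ hi)]
    exact hY' _ (List.getElem_mem _)
  have hsum : ∀ (m : ℕ) (g : ℕ → ℕ),
      ((((List.range m).map g).sum : ℕ) : ZMod n) = ∑ i : Fin m, (g i : ZMod n) := by
    intro m g
    rw [Fin.sum_univ_eq_sum_range fun i => (g i : ZMod n), Finset.sum_range_induction _ (fun k =>
      ((((List.range k).map g).sum : ℕ) : ZMod n)) (by simp)]
    intro k _
    rw [List.range_succ]
    simp
  rw [certSum, hsum]
  refine Finset.sum_congr rfl fun i _ => ?_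
  obtain ⟨hj, e1, e2, hbH, hbv⟩ := outer_spec hT hTv hy hY i
  obtain ⟨-, -, e4, haH, hav⟩ := outer_spec hT hTv hx hX ⟨_, hj⟩
  rw [e1, e2, e4, innerSum, hsum]
  refine Finset.sum_congr rfl fun s _ => ?_
  obtain ⟨hj', f1, f2, hq⟩ := inner_spec hS hSv hdec hmem hbv hbH (hYr i i.2) s
  obtain ⟨-, -, f4, hp⟩ := inner_spec hS hSv hdec hmem hav haH (hXr _ hj) ⟨_, hj'⟩
  rw [f1, f2, f4]
  exact hf _ _ hp hq

end Cfsg.Agent.H94.M22
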