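import Cfsg.Agent.H94.M22.ZCollector
import Cfsg.Agent.H94.M24.Class

/-!
A checkable certificate that the 2-part of the kernel of every stem extension of `M22` is cyclic
of order at most four.
-/

set_option autoImplicit false

namespace Cfsg.Agent.H94.M22

open Cfsg Cfsg.Agent.Golay Cfsg.Agent.H94.M24
open Cfsg.Agent.H94.Mult (bitsOf)

/-- The fixed points of `M22`. -/
def F22 : ℕ := 8388609

/-- The certificate. -/
structure UpperCert where
  /-- Number of generators of the Sylow subgroup. -/
  n : ℕ
  /-- Number of generators not defined as commutators. -/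
  nb : ℕ
  /-- Tables of the generators. -/
  gens : List ℕ
  /-- Square rules. -/
  sqR : List (ℕ × List ℤ)
  /-- Commutator rules. -/
  cmR : List (List (ℕ × List ℤ))
  /-- Defining commutators of the later generators. -/
  defs : List (ℕ × ℕ)
  /-- The rule of each unknown tail. -/
  vars : List (ℕ × ℕ × ℕ)
  /-- The unknown generating the kernel. -/
  e : ℕ
  /-- Associativity equations. -/
  tri : List (ℕ × ℕ × ℕ)
  /-- Conjugating elements. -/
  conjs : List ℕ
  /-- Conjugate pairs. -/
  pairs : List (ℕ × ℕ × ℕ)
  /-- Relations between the pairs. -/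
  rels : List (ℕ × List ℕ × List ℕ)
  /-- For each later unknown, its multiple of the generator and the equations proving it. -/
  proofs : List (ℤ × List (ℕ × ℤ))
  /-- The equations giving four times the generator zero. -/
  eOrder : List (ℕ × ℤ)

namespace UpperCert

variable (C : UpperCert)

/-- The rules. -/
def R : ZRules where
  n := C.n
  sq i := C.sqR.getD i (0, [])
  cm j i := (C.cmR.getD j []).getD i (0, [])

/-- Table of a generator. -/
def gen (k : ℕ) : ℕ := C.gens.getD k idTblVal

/-- Table of a normal form. -/
def elT (m : ℕ) : ℕ := (bitsOf C.n m).foldl (fun acc k => tblMul acc (C.gen k)) idTblVal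

/-- Bound on the recursion depth of collection. -/
def fuel : ℕ := 200

/-- Collect a word. -/
def ev (ks : List ℕ) : Option (ℕ × List ℤ) := mulListZ (mulGenZ C.R fuel) ks 0

/-- An associativity equation. -/
def triEq : ℕ × ℕ × ℕ → Option (List ℤ)
  | (k, j, i) =>
    match C.ev [k, j, i], C.ev [j, i] with
    | some (r, f), some (p, g) =>
      match C.ev (k :: bitsOf C.n p) with
      | some (r', g') => if r == r' then some (addF f (smulF (-1) (addF g g'))) else none
      | none => none
    | _, _ => none

/-- Source side of a word of pairs. -/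
def evU (gi : ℕ) : List ℕ → ℕ × List ℤ → Option (ℕ × List ℤ)
  | [], st => some st
  | k :: ks, st =>
    if (C.pairs.getD k (0, 0, 0)).1 == gi && decide (k < C.pairs.length) then
      match mulListZ (mulGenZ C.R fuel) (bitsOf C.n (C.pairs.getD k (0, 0, 0)).2.1) st.1 with
      | some (r, f) => evU gi ks (r, addF st.2 f)
      | none => none
    else none

/-- Target side of a word of pairs. -/
def evW : List ℕ → ℕ × List ℤ → Option (ℕ × List ℤ)
  | [], st => some st
  | k :: ks, st =>
    match mulListZ (mulGenZ C.R fuel) (bitsOf C.n (C.pairs.getD k (0, 0, 0)).2.2) st.1 with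
    | some (r, f) => evW ks (r, addF (addF st.2 f) (unitF (C.vars.length + k)))
    | none => none

/-- An equation from two words of conjugate pairs. -/
def relEq : ℕ × List ℕ × List ℕ → Option (List ℤ)
  | (gi, l₁, l₂) =>
    if decide (gi < C.conjs.length) then
      match C.evU gi l₁ (0, []), C.evU gi l₂ (0, []), C.evW l₁ (0, []), C.evW l₂ (0, []) with
      | some (a, f), some (a', f'), some (b, h), some (b', h') =>
        if a == a' && b == b' then
          some (addF (addF f (smulF (-1) f')) (smulF (-1) (addF h (smulF (-1) h')))) else none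
      | _, _, _, _ => none
    else none

/-- All equations. -/
def eqs : List (Option (List ℤ)) := C.tri.map C.triEq ++ C.rels.map C.relEq

/-- A combination of equations. -/
def comb (es : List (List ℤ)) (l : List (ℕ × ℤ)) : List ℤ :=
  l.foldl (fun acc p => addF acc (smulF p.2 (es.getD p.1 []))) []

/-- A form in the later tails only. -/
def okF (f : List ℤ) : Bool :=
  (List.range f.length).all fun i =>
    (decide (C.nb ≤ i) && decide (i < C.vars.length)) || f.getD i 0 == 0

/-- The form of a rule. -/
def formOf : ℕ × ℕ × ℕ → List ℤ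
  | (0, j, _) => (C.R.sq j).2
  | (_, j, i) => (C.R.cm j i).2

/-- A rule has either a defining or an unknown tail. -/
def ruleOK (r : ℕ × ℕ × ℕ) : Bool :=
  ((r.1 == 1) && C.formOf r == [] && C.defs.contains (r.2.1, r.2.2)) ||
    (List.range C.vars.length).any fun v => C.formOf r == unitF v && C.vars.getD v (0, 0, 0) == r

/-- The table identities. -/
def checkTables : Bool :=
  C.gens.length == C.n && C.nb + C.defs.length == C.n &&
  (C.gens.all fun t => inStab [] F22 t) &&
  (C.conjs.all fun t => inStab [] F22 t) &&
  (C.pairs.all fun p => decide (p.1 < C.conjs.length) &&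
    conjB (C.conjs.getD p.1 0) (C.elT p.2.1) (C.elT p.2.2)) &&
  ((List.range C.defs.length).all fun d =>
    (C.R.cm (C.defs.getD d (0, 0)).1 (C.defs.getD d (0, 0)).2).1 == 2 ^ (C.nb + d) &&
    decide ((C.defs.getD d (0, 0)).1 < C.nb + d) &&
    decide ((C.defs.getD d (0, 0)).2 < (C.defs.getD d (0, 0)).1)) &&
  ((List.range C.n).all fun j =>
    C.ruleOK (0, j, 0) && decide ((C.R.sq j).1 < 2 ^ C.n) &&
    tblEq (tblMul (C.gen j) (C.gen j)) (C.elT (C.R.sq j).1) &&
    (List.range j).all fun i => C.ruleOK (1, j, i) && decide ((C.R.cm j i).1 < 2 ^ C.n) &&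
      (C.R.cm j i).1 % 2 ^ C.nb == 0 && C.okF (C.R.cm j i).2 &&
      tblEq (tblMul (C.gen j) (C.gen i))
        (tblMul (tblMul (C.gen i) (C.gen j)) (C.elT (C.R.cm j i).1)))

/-- The normal forms are a group of order `2 ^ n`, the later ones a subgroup. -/
def checkGroup : Bool :=
  ((List.range (2 ^ C.n)).all fun m => (List.range C.n).all fun i =>
    match mulGenZ C.R fuel m i with
    | some (r, f) => decide (r < 2 ^ C.n) &&
        (!(m % 2 ^ C.nb == 0 && decide (C.nb ≤ i)) || (r % 2 ^ C.nb == 0 && C.okF f))
    | none => false) &&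
  decide ((List.range (2 ^ C.n)).map C.elT).Nodup &&
  ((List.range (2 ^ C.n)).all fun m => canonT (C.elT m))

/-- Every later tail is a multiple of the generator, whose order divides four. -/
def checkForms : Bool :=
  let es := C.eqs.map fun o => o.getD []
  (C.eqs.all Option.isSome) &&
  (C.eOrder.all fun p => decide (p.1 < C.eqs.length)) &&
  isZeroF (addF (comb es C.eOrder) (smulF (-4) (unitF C.e))) &&
  (List.range (C.vars.length - C.nb)).all fun v =>
    ((C.proofs.getD v (0, [])).2.all fun p => decide (p.1 < C.eqs.length)) &&
    isZeroF (addF (addF (comb es (C.proofs.getD v (0, [])).2) (smulF (-1) (unitF (C.nb + v))))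
      (smulF (C.proofs.getD v (0, [])).1 (unitF C.e)))

end UpperCert

end Cfsg.Agent.H94.M22
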