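import Cfsg.Agent.H94.M22.LowerData
import Cfsg.Agent.H94.M22.LowerCert
import Cfsg.Agent.H94.M22.UpperCert

/-!
Boolean checks on the tables for the lower bound.
-/

set_option autoImplicit false

namespace Cfsg.Agent.H94.M22

open Cfsg Cfsg.Agent.Golay Cfsg.Agent.H94.M24

/-- The octad. -/
def octO : ℕ := 9240913

/-- An element of the Sylow 2-subgroup. -/
def pEl (m : ℕ) : ℕ := pEls.getD m 0

/-- Its multiplication. -/
def pMulF (u v : ℕ) : ℕ := (mRows.getD u 0 >>> (8 * v)) % 256

/-- The cocycle on indices. -/
def pCoc (u v : ℕ) : ℕ := (cRows.getD u 0 >>> (2 * v)) % 4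

/-- The generators. -/
def pGens : List ℕ := [0, 1, 2, 4, 8, 16, 32, 64]

/-- The top bit. -/
def topBit (v : ℕ) : ℕ := (pGens.filter fun g => g ≤ v).getLastD 0

/-- The tables of the group. -/
def checkP : Bool :=
  (pEls.length == 128) && pEls.all canonT && decide pEls.Nodup &&
    pEls.all (inStab [octO] F22) && tblEq (pEl 0) idTblVal &&
    (List.range 128).all (fun u =>
      (pGens.all fun g => decide (pMulF u g < 128) &&
        tblEq (pEl (pMulF u g)) (tblMul (pEl u) (pEl g))) &&
      decide (pInvs.getD u 0 < 128) && tblEq (tblMul (pEl (pInvs.getD u 0)) (pEl u)) idTblVal) &&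
    (List.range 128).all fun v => v == 0 ||
      (pGens.contains (topBit v) && decide (v - topBit v < v) &&
        pMulF (v - topBit v) (topBit v) == v)

/-- The cocycle identity and associativity on generators, for a range of first arguments. -/
def checkAssoc (a b : ℕ) : Bool :=
  (List.range' a b).all fun u => forceN (mRows.getD u 0) fun mu => forceN (cRows.getD u 0) fun cu =>
    (mRows.zip cRows).zipIdx.all fun r => match r with
    | ((mv, cv), v) => forceN ((mu >>> (8 * v)) % 256) fun w =>
      forceN (mRows.getD w 0) fun mw => forceN (cRows.getD w 0) fun cw =>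
        decide (w < 128) && pGens.all fun g => forceN ((mv >>> (8 * g)) % 256) fun vg =>
          ((mu >>> (8 * vg)) % 256 == (mw >>> (8 * g)) % 256) &&
          (((cu >>> (2 * v)) % 4 + (cw >>> (2 * g)) % 4) % 4 ==
            ((cv >>> (2 * g)) % 4 + (cu >>> (2 * vg)) % 4) % 4)

/-- The transversal of the octad stabiliser. -/
def checkTop : Bool :=
  tTop.all (inStab [] F22) && decide octImgs.Nodup && (tTop.map fun t => tblImg t octO) == octImgs &&
    octImgs.all (fun o => decide (o < 2 ^ 24)) &&
    (octadList.all fun o => !(o.testBit 23 && o.testBit 0) || octImgs.contains o) &&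
    octadList.contains octO

/-- The transversal of the Sylow 2-subgroup. -/
def checkTwo : Bool :=
  tTwo.all (inStab [octO] F22) && tTwoInv.all validT && (tTwoInv.length == tTwo.length) &&
    (tTwoInv.zip tTwo).all (fun p => tblEq (tblMul p.1 p.2) idTblVal)

/-- The cosets of the Sylow 2-subgroup are distinct, for a range of first indices. -/
def checkTwoInj (a b : ℕ) : Bool :=
  (List.range' a b).all fun i => forceN (tTwoInv.getD i 0) fun si => tTwo.zipIdx.all fun q =>
    i == q.2 || !pEls.contains (tblMul si q.1)

/-- Rotation of the two triples. -/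
def rotB (q : ℕ) : Bool :=
  forceN (app q 4) fun a => forceN (app q 16) fun b =>
    ([4, 6, 8].contains a && [16, 18, 19].contains b) &&
    (app q 6 == [4, 6, 8].getD (([4, 6, 8].idxOf a + 1) % 3) 0) &&
    (app q 8 == [4, 6, 8].getD (([4, 6, 8].idxOf a + 2) % 3) 0) &&
    (app q 18 == [16, 18, 19].getD (([16, 18, 19].idxOf b + 1) % 3) 0) &&
    (app q 19 == [16, 18, 19].getD (([16, 18, 19].idxOf b + 2) % 3) 0)

/-- The product of the rotation parameters. -/
def rotF (p q : ℕ) : ℕ := [4, 6, 8].idxOf (app p 4) * [16, 18, 19].idxOf (app q 16)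

/-- A valid table rotating the triples. -/
def okRot (q : ℕ) : Bool := validT q && rotB q

/-- The transversal of the rotation subgroup. -/
def checkThree : Bool :=
  tThree.all (inStab [octO] F22) && tThreeInv.all validT && (tThreeInv.length == tThree.length) &&
    (tThreeInv.zip tThree).all (fun p => tblEq (tblMul p.1 p.2) idTblVal) &&
    (tThreeInv.zipIdx.all fun p => tThree.zipIdx.all fun q =>
      p.2 == q.2 || !rotB (tblMul p.1 q.1)) &&
    tRot.all (fun t => inStab [octO] F22 t && rotB t) &&
    (tRot.map fun t => ([4, 6, 8].idxOf (app t 4), [16, 18, 19].idxOf (app t 16))) ==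
      [(0, 0), (0, 1), (0, 2), (1, 0), (1, 1), (1, 2), (2, 0), (2, 1), (2, 2)] &&
    checkChain [] octO nChain

/-- The decoding of indices. -/
def okP (m : ℕ) : Bool := decide (m < 128)

end Cfsg.Agent.H94.M22
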