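import Cfsg.Agent.H94.M22.LowerTop
import Cfsg.Agent.H94.M22.Combine
import Cfsg.Agent.H94.M22.ChkThreeX
import Cfsg.Agent.H94.M22.ChkThreeY
import Cfsg.Agent.H94.M22.ChkSums

/-!
A stem extension of `M22` with kernel cyclic of order three.
-/

set_option autoImplicit false

namespace Cfsg.Agent.H94.M22

open Cfsg Cfsg.Agent.Golay Cfsg.Agent.H94.M24

/-- The first triple. -/
def tri₁ (a : ZMod 3) : GolayPt := pt ([4, 6, 8].getD a.val 0)

/-- The second triple. -/
def tri₂ (a : ZMod 3) : GolayPt := pt ([16, 18, 19].getD a.val 0)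

lemma tri_injective : Function.Injective tri₁ ∧ Function.Injective tri₂ := by
  unfold Function.Injective; decide

lemma tri_lt : ∀ a : ZMod 3, [4, 6, 8].getD a.val 0 < 24 ∧ [16, 18, 19].getD a.val 0 < 24 := by
  decide

lemma zmod3_cases : ∀ j : ZMod 3, j = 0 ∨ j = 1 ∨ j = 2 := by decide

/-- Rotation by `a` and `b` of the two triples. -/
def Rot (σ : Equiv.Perm GolayPt) (a b : ZMod 3) : Prop :=
  (∀ j, σ (tri₁ j) = tri₁ (j + a)) ∧ ∀ j, σ (tri₂ j) = tri₂ (j + b)

lemma Rot.mul {σ τ : Equiv.Perm GolayPt} {a b a' b' : ZMod 3} (h : Rot σ a b) (h' : Rot τ a' b') :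
    Rot (σ * τ) (a' + a) (b' + b) :=
  ⟨fun j => by rw [Equiv.Perm.mul_apply, h'.1, h.1, add_assoc],
    fun j => by rw [Equiv.Perm.mul_apply, h'.2, h.2, add_assoc]⟩

lemma Rot.inv {σ : Equiv.Perm GolayPt} {a b : ZMod 3} (h : Rot σ a b) : Rot σ⁻¹ (-a) (-b) := by
  refine ⟨fun j => ?_, fun j => ?_⟩
  · rw [Equiv.Perm.inv_eq_iff_eq, h.1, neg_add_cancel_right]
  · rw [Equiv.Perm.inv_eq_iff_eq, h.2, neg_add_cancel_right]

lemma rot_one : Rot 1 0 0 := ⟨fun j => by simp, fun j => by simp⟩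

lemma Rot.unique {σ : Equiv.Perm GolayPt} {a b a' b' : ZMod 3} (h : Rot σ a b)
    (h' : Rot σ a' b') : a = a' ∧ b = b' :=
  ⟨by simpa using tri_injective.1 ((h.1 0).symm.trans (h'.1 0)),
    by simpa using tri_injective.2 ((h.2 0).symm.trans (h'.2 0))⟩

/-- The group of rotations inside the octad stabiliser. -/
noncomputable def rSub : Subgroup (Equiv.Perm GolayPt) where
  carrier := {σ | σ ∈ stabGrp [octO] F22 ∧ ∃ a b, Rot σ a b}
  one_mem' := ⟨one_mem _, 0, 0, rot_one⟩
  mul_mem' := by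
    rintro _ _ ⟨h, a, b, hr⟩ ⟨h', a', b', hr'⟩
    exact ⟨mul_mem h h', _, _, hr.mul hr'⟩
  inv_mem' := by
    rintro _ ⟨h, a, b, hr⟩
    exact ⟨inv_mem h, _, _, hr.inv⟩

open Classical in
/-- The first rotation parameter. -/
noncomputable def rA (σ : Equiv.Perm GolayPt) : ZMod 3 :=
  Classical.epsilon fun a => ∃ b, Rot σ a b

open Classical in
/-- The second rotation parameter. -/
noncomputable def rB (σ : Equiv.Perm GolayPt) : ZMod 3 :=
  Classical.epsilon fun b => ∃ a, Rot σ a b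

lemma rA_eq {σ : Equiv.Perm GolayPt} {a b : ZMod 3} (h : Rot σ a b) : rA σ = a ∧ rB σ = b := by
  obtain ⟨b', hb⟩ : ∃ b', Rot σ (rA σ) b' :=
    Classical.epsilon_spec (p := fun a => ∃ b, Rot σ a b) ⟨a, b, h⟩
  obtain ⟨a', ha⟩ : ∃ a', Rot σ a' (rB σ) :=
    Classical.epsilon_spec (p := fun b => ∃ a, Rot σ a b) ⟨b, a, h⟩
  exact ⟨(hb.unique h).1, (ha.unique h).2⟩

/-- The bilinear cocycle. -/
noncomputable def rC (σ τ : Equiv.Perm GolayPt) : ZMod 3 := rA σ * rB τ

lemma isCoc_rC : IsCoc rSub rC := by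
  rintro σ ⟨-, a, b, h⟩ τ ⟨-, a', b', h'⟩ υ ⟨-, a'', b'', h''⟩
  simp only [rC, (rA_eq h).1, (rA_eq h').1, (rA_eq h').2, (rA_eq (h.mul h')).1,
    (rA_eq h'').2, (rA_eq (h'.mul h'')).2]
  ring

lemma rot_of_rotB {q : ℕ} (hq : validT q = true) (h : rotB q = true) :
    Rot (mkPerm q) ([4, 6, 8].idxOf (app q 4) : ℕ) ([16, 18, 19].idxOf (app q 16) : ℕ) := by
  simp only [rotB, forceN_eq, Bool.and_eq_true, beq_iff_eq, List.contains_iff_mem] at h
  obtain ⟨⟨⟨⟨⟨ha, hb⟩, h6⟩, h8⟩, h18⟩, h19⟩ := h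
  have hp : ∀ i < 24, mkPerm q (pt i) = pt (app q i) := fun i hi => mkPerm_pt hq hi
  have k1 : ∀ a ∈ [4, 6, 8],
      a = [4, 6, 8].getD ((0 : ZMod 3) + ([4, 6, 8].idxOf a : ℕ)).val 0 ∧
      [4, 6, 8].getD (([4, 6, 8].idxOf a + 1) % 3) 0
        = [4, 6, 8].getD ((1 : ZMod 3) + ([4, 6, 8].idxOf a : ℕ)).val 0 ∧
      [4, 6, 8].getD (([4, 6, 8].idxOf a + 2) % 3) 0
        = [4, 6, 8].getD ((2 : ZMod 3) + ([4, 6, 8].idxOf a : ℕ)).val 0 := by decide
  have k2 : ∀ a ∈ [16, 18, 19],
      a = [16, 18, 19].getD ((0 : ZMod 3) + ([16, 18, 19].idxOf a : ℕ)).val 0 ∧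
      [16, 18, 19].getD (([16, 18, 19].idxOf a + 1) % 3) 0
        = [16, 18, 19].getD ((1 : ZMod 3) + ([16, 18, 19].idxOf a : ℕ)).val 0 ∧
      [16, 18, 19].getD (([16, 18, 19].idxOf a + 2) % 3) 0
        = [16, 18, 19].getD ((2 : ZMod 3) + ([16, 18, 19].idxOf a : ℕ)).val 0 := by decide
  refine ⟨fun j => ?_, fun j => ?_⟩
  · rw [tri₁, hp _ (tri_lt j).1]
    rcases zmod3_cases j with rfl | rfl | rfl
    · exact congrArg pt ((k1 _ ha).1)
    · exact congrArg pt (h6.trans (k1 _ ha).2.1)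
    · exact congrArg pt (h8.trans (k1 _ ha).2.2)
  · rw [tri₂, hp _ (tri_lt j).2]
    rcases zmod3_cases j with rfl | rfl | rfl
    · exact congrArg pt ((k2 _ hb).1)
    · exact congrArg pt (h18.trans (k2 _ hb).2.1)
    · exact congrArg pt (h19.trans (k2 _ hb).2.2)

lemma rC_eq {p q : ℕ} (hp : okRot p = true) (hq : okRot q = true) :
    rC (mkPerm p) (mkPerm q) = rotF p q := by
  simp only [okRot, Bool.and_eq_true] at hp hq
  rw [rC, (rA_eq (rot_of_rotB hp.1 hp.2)).1, (rA_eq (rot_of_rotB hq.1 hq.2)).2, rotF, Nat.cast_mul]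

lemma three_facts : (tThree.all (inStab [octO] F22) = true ∧ tThreeInv.all validT = true ∧
    tThreeInv.length = tThree.length ∧
    (tThreeInv.zip tThree).all (fun p => tblEq (tblMul p.1 p.2) idTblVal) = true ∧
    (tThreeInv.zipIdx.all fun p => tThree.zipIdx.all fun q =>
      p.2 == q.2 || !rotB (tblMul p.1 q.1)) = true) ∧
    (∀ t ∈ tRot, inStab [octO] F22 t = true ∧ rotB t = true) ∧
    (tRot.map fun t => ([4, 6, 8].idxOf (app t 4), [16, 18, 19].idxOf (app t 16))) =
      [(0, 0), (0, 1), (0, 2), (1, 0), (1, 1), (1, 2), (2, 0), (2, 1), (2, 2)] ∧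
    checkChain [] octO nChain = true := by
  have h := checkThree_ok
  simp only [checkThree, Bool.and_eq_true, beq_iff_eq] at h
  obtain ⟨⟨⟨⟨⟨⟨⟨h1, h2⟩, h3⟩, h4⟩, h5⟩, h6⟩, h7⟩, h8⟩ := h
  refine ⟨⟨h1, h2, h3, h4, h5⟩, fun t ht => ?_, h7, h8⟩
  simpa using List.all_eq_true.1 h6 t ht

instance : Nonempty (Fin tRot.length) := ⟨⟨0, List.length_pos_iff.2 (by unfold tRot; simp)⟩⟩

instance : Nonempty (Fin tThree.length) :=
  ⟨⟨0, List.length_pos_iff.2 (by unfold tThree; simp)⟩⟩

lemma isTrans_rot : IsTrans (stabGrp [] octO) rSub (tFun tRot) := by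
  obtain ⟨-, hrot, hmap, -⟩ := three_facts
  have hl : tRot.length = 9 := by have := congrArg List.length hmap; simpa using this
  have hR : ∀ i : Fin tRot.length, mkPerm (tRot.getD i 0) ∈ stabGrp [octO] F22 ∧
      Rot (mkPerm (tRot.getD i 0)) (((i : ℕ) / 3 : ℕ) : ZMod 3) (((i : ℕ) % 3 : ℕ) : ZMod 3) := by
    intro i
    have hi := i.2
    have hm : tRot.getD i 0 ∈ tRot := by
      rw [List.getD_eq_getElem _ _ hi]; exact List.getElem_mem _
    refine ⟨mem_stabGrp_of_inStab (hrot _ hm).1, ?_⟩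
    have h := rot_of_rotB (valid_of_inStab' (hrot _ hm).1) (hrot _ hm).2
    have e : ([4, 6, 8].idxOf (app (tRot.getD i 0) 4), [16, 18, 19].idxOf (app (tRot.getD i 0) 16))
        = ((i : ℕ) / 3, (i : ℕ) % 3) := by
      have e1 := List.getElem_of_eq hmap (i := i) (by simpa using hi)
      rw [List.getElem_map] at e1
      rw [List.getD_eq_getElem _ _ hi, e1]
      have key : ∀ k : Fin 9, ([(0, 0), (0, 1), (0, 2), (1, 0), (1, 1), (1, 2), (2, 0), (2, 1),
          (2, 2)] : List (ℕ × ℕ))[(k : ℕ)]'k.2 = ((k : ℕ) / 3, (k : ℕ) % 3) := by decide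
      exact key ⟨i, by omega⟩
    obtain ⟨e1, e2⟩ := Prod.ext_iff.1 e
    dsimp only at e1 e2
    rw [e1, e2] at h
    exact h
  have hN : ∀ σ ∈ stabGrp [] octO, σ ∈ stabGrp [octO] F22 ∧ Rot σ 0 0 := by
    intro σ hσ
    have hfix : ∀ i < 24, octO.testBit i = true → σ (pt i) = pt i := fun i hi h =>
      hσ.2.2 _ (by rw [mem_ptSet, idx_pt i hi]; exact h)
    refine ⟨⟨hσ.1, fun e he => ?_, fun p hp => hσ.2.2 p ?_⟩, fun j => ?_, fun j => ?_⟩
    · rw [List.mem_singleton] at he
      subst he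
      exact Finset.ext fun p => by
        rw [mem_smul_finset_iff]
        constructor
        · intro h
          have := hσ.2.2 _ h
          rw [Equiv.apply_symm_apply] at this
          rw [this]; exact h
        · intro h
          rwa [show σ.symm p = p by rw [Equiv.symm_apply_eq, hσ.2.2 p h]]
    · have key : ∀ i < 24, F22.testBit i = true → octO.testBit i = true := by decide
      rw [mem_ptSet] at hp ⊢
      exact key _ (idx_lt p) hp
    · rw [add_zero, tri₁]
      revert j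
      intro j
      fin_cases j <;> exact hfix _ (by decide) (by decide)
    · rw [add_zero, tri₂]
      revert j
      intro j
      fin_cases j <;> exact hfix _ (by decide) (by decide)
  refine ⟨fun σ hσ => ⟨(hN σ hσ).1, 0, 0, (hN σ hσ).2⟩,
    fun i => ⟨(hR i).1, _, _, (hR i).2⟩, fun i j hij => ?_, fun g hg => ?_⟩
  · have h0 := (hN _ hij).2
    obtain ⟨e1, e2⟩ := Rot.unique h0 ((hR i).2.inv.mul (hR j).2)
    have key : ∀ a b : Fin 9, ((0 : ZMod 3) = ((b : ℕ) / 3 : ℕ) + -((((a : ℕ) / 3 : ℕ)) : ZMod 3)) →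
        ((0 : ZMod 3) = ((b : ℕ) % 3 : ℕ) + -((((a : ℕ) % 3 : ℕ)) : ZMod 3)) → a = b := by decide
    exact Fin.ext (congrArg (fun k : Fin 9 => (k : ℕ)) (key ⟨i, by omega⟩ ⟨j, by omega⟩ e1 e2))
  · obtain ⟨hH, a, b, hr⟩ := hg
    have hk : 3 * a.val + b.val < tRot.length := by
      have := a.val_lt; have := b.val_lt; omega
    refine ⟨⟨_, hk⟩, ?_⟩
    have hab : ∀ a b : ZMod 3, (((3 * a.val + b.val) / 3 : ℕ) : ZMod 3) = a ∧
        (((3 * a.val + b.val) % 3 : ℕ) : ZMod 3) = b := by decide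
    have h := (hR ⟨_, hk⟩).2.inv.mul hr
    simp only [(hab a b).1, (hab a b).2, add_neg_cancel] at h
    have hm := mul_mem (inv_mem (hR ⟨_, hk⟩).1) hH
    refine ⟨hm.1, by simp, fun p hp => ?_⟩
    have key : ∀ i < 24, octO.testBit i = true →
        F22.testBit i = true ∨ i ∈ [4, 6, 8] ∨ i ∈ [16, 18, 19] := by decide
    rw [mem_ptSet] at hp
    rw [← pt_idx p]
    generalize idx p = i at hp
    have hi : i < 24 := by
      by_contra hge
      rw [Nat.testBit_lt_two_pow ((show octO < 2 ^ 24 by decide).trans_le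
        (Nat.pow_le_pow_right (by norm_num) (by omega)))] at hp
      exact Bool.false_ne_true hp
    rcases key i hi hp with h' | h' | h'
    · exact hm.2.2 _ (by rw [mem_ptSet, idx_pt i hi]; exact h')
    · obtain ⟨j, rfl⟩ : ∃ j : ZMod 3, [4, 6, 8].getD j.val 0 = i := by
        fin_cases h'
        exacts [⟨0, rfl⟩, ⟨1, rfl⟩, ⟨2, rfl⟩]
      simpa [tri₁, tFun] using h.1 j
    · obtain ⟨j, rfl⟩ : ∃ j : ZMod 3, [16, 18, 19].getD j.val 0 = i := by
        fin_cases h'
        exacts [⟨0, rfl⟩, ⟨1, rfl⟩, ⟨2, rfl⟩]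
      simpa [tri₂, tFun] using h.2 j

theorem isTrans_three : IsTrans rSub (stabGrp [octO] F22) (tFun tThree) := by
  obtain ⟨⟨hst, hiv, hlen, hinv, hinj⟩, -, hmap, hch⟩ := three_facts
  rw [List.all_eq_true] at hst hiv
  refine IsTrans.of_card (fun _ h => h.1) (fun i => mem_stabGrp_of_inStab ?_) (fun i j hij => ?_) ?_
  · rw [List.getD_eq_getElem _ _ i.2]; exact hst _ (List.getElem_mem _)
  · have hi : (i : ℕ) < tThreeInv.length := by have := i.2; omega
    have hvi : validT (tThreeInv.getD i 0) = true := by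
      rw [List.getD_eq_getElem _ _ hi]; exact hiv _ (List.getElem_mem _)
    have hv : ∀ k : Fin tThree.length, validT (tThree.getD k 0) = true := fun k => by
      rw [List.getD_eq_getElem _ _ k.2]
      exact valid_of_inStab' (hst _ (List.getElem_mem _))
    have he := all_zip 0 0 hlen.symm hinv hi
    simp only at he
    rw [tblEq_iff (tblMul_spec hvi (hv i)).1 idTblVal_spec.1, (tblMul_spec hvi (hv i)).2,
      idTblVal_spec.2] at he
    have e' : (tFun tThree i)⁻¹ = mkPerm (tThreeInv.getD i 0) :=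
      (eq_inv_of_mul_eq_one_left he).symm
    rw [e', tFun, ← (tblMul_spec hvi (hv j)).2] at hij
    obtain ⟨-, a, b, hr⟩ := hij
    have hw := tblMul_spec hvi (hv j)
    set q := tblMul (tThreeInv.getD i 0) (tThree.getD j 0) with hq
    have hb : rotB q = true := by
      have happ : ∀ k, k < 24 → ∀ z, mkPerm q (pt k) = pt z → z < 24 → app q k = z := by
        intro k hk z he hz
        rw [mkPerm_pt hw.1 hk] at he
        have := congrArg idx he
        rwa [idx_pt _ ((validT_bijective hw.1).2 _ hk), idx_pt _ hz] at this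
      have e4 := happ 4 (by norm_num) _ (hr.1 0) (tri_lt _).1
      have e6 := happ 6 (by norm_num) _ (hr.1 1) (tri_lt _).1
      have e8 := happ 8 (by norm_num) _ (hr.1 2) (tri_lt _).1
      have e16 := happ 16 (by norm_num) _ (hr.2 0) (tri_lt _).2
      have e18 := happ 18 (by norm_num) _ (hr.2 1) (tri_lt _).2
      have e19 := happ 19 (by norm_num) _ (hr.2 2) (tri_lt _).2
      simp only [rotB, forceN_eq, e4, e6, e8, e16, e18, e19]
      revert a b
      intro a b _ _ _ _ _ _ _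
      fin_cases a <;> fin_cases b <;> rfl
    rw [List.all_eq_true] at hinj
    have := hinj (tThreeInv.getD i 0, (i : ℕ)) (by
      rw [List.mem_zipIdx_iff_getElem?]; simp [hi])
    rw [List.all_eq_true] at this
    have := this (tThree.getD j 0, (j : ℕ)) (by rw [List.mem_zipIdx_iff_getElem?]; simp)
    simp only [← hq, hb, Bool.not_true, Bool.or_false, beq_iff_eq] at this
    exact Fin.ext this
  · have h9 : tRot.length = 9 := by have := congrArg List.length hmap; simpa using this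
    rw [isTrans_rot.card_eq, card_octStab, card_stabGrp hch, Nat.card_fin, Nat.card_fin, h9,
      show tThree.length = 40 by unfold tThree; rfl, show chainCard nChain = 16 from rfl]

lemma cor_three {x y : ℕ} (hx : inStab [] F22 x = true) (hy : inStab [] F22 y = true)
    {X Y : List CRow} (hX : outerOK octO F22 tTop x X = true) (hY : outerOK octO F22 tTop y Y = true)
    (hX' : X.all (innerOK tThree id okRot) = true) (hY' : Y.all (innerOK tThree id okRot) = true) :
    cor (stabGrp [octO] F22) (tFun tTop) (cor rSub (tFun tThree) rC) (mkPerm x) (mkPerm y)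
      = (certSum 77 40 rotF X Y : ZMod 3) := by
  rw [cor_eq_certSum isTrans_top (fun t ht => valid_of_inStab' (tTop_inStab t ht)) isTrans_three
    (fun t ht => valid_of_inStab' (List.all_eq_true.1 three_facts.1.1 t ht))
    (fun q hq => by simp only [okRot, Bool.and_eq_true] at hq; exact hq.1)
    (fun q hq hH => by
      simp only [okRot, Bool.and_eq_true] at hq
      exact ⟨hH, _, _, rot_of_rotB hq.1 hq.2⟩) rC rotF (fun p q hp hq => rC_eq hp hq)
    (valid_of_inStab' hx) (valid_of_inStab' hy) hX hY hX' hY',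
    show tTop.length = 77 by unfold tTop; rfl, show tThree.length = 40 by unfold tThree; rfl]

lemma witness_three : inStab [] F22 x3 = true ∧ inStab [] F22 y3 = true ∧ commB x3 y3 = true := by
  decide +kernel

/-- The extension with kernel of order three. -/
theorem exists_stem_three :
    ∃ (Γ : Type) (_ : Group Γ) (_ : Finite Γ) (σ : Γ →* ↥(stabGrp [] F22)),
      IsStemExtension σ ∧ Nonempty (σ.ker ≃* Multiplicative (ZMod 3)) := by
  obtain ⟨hx, hy, hxy⟩ := witness_three
  rw [commB_iff (valid_of_inStab' hx) (valid_of_inStab' hy)] at hxy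
  have hX : certX3.all (innerOK tThree id okRot) = true := by
    rw [certX3, List.all_append, List.all_append, certX3_inner0, certX3_inner1, certX3_inner2]; rfl
  have hY : certY3.all (innerOK tThree id okRot) = true := by
    rw [certY3, List.all_append, List.all_append, certY3_inner0, certY3_inner1, certY3_inner2]; rfl
  refine exists_stem_of_cocycle _ (isCoc_cor isTrans_top (isCoc_cor isTrans_three isCoc_rC))
    (x := ⟨_, mem_stabGrp_of_inStab hx⟩) (y := ⟨_, mem_stabGrp_of_inStab hy⟩) (Subtype.ext hxy)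
    fun a => ?_
  rw [cor_three hx hy certX3_outer certY3_outer hX hY, cor_three hy hx certY3_outer certX3_outer hY hX,
    certSum_three.1, certSum_three.2]
  exact ⟨2 * a.val, by revert a; decide⟩

end Cfsg.Agent.H94.M22
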