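import Cfsg.Agent.H94.M22.ChkTop
import Cfsg.Agent.Golay.Mathieu

/-!
The octad stabiliser in `M22` and its transversal.
-/

set_option autoImplicit false

namespace Cfsg.Agent.H94.M22

open Cfsg Cfsg.Agent.Golay Cfsg.Agent.H94.M24
open scoped Pointwise

lemma spor_M22_eq_F22 : Spor.M22 = stabGrp [] F22 := spor_M22_eq

lemma valid_of_inStab' {E : List ℕ} {F t : ℕ} (h : inStab E F t = true) : validT t = true := by
  unfold inStab at h
  simp only [Bool.and_eq_true] at h
  exact validT_of_inM24 h.1.1

lemma stabGrp_octO_le : stabGrp [octO] F22 ≤ stabGrp [] F22 := fun _ h => ⟨h.1, by simp, h.2.2⟩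

lemma tTop_inStab : ∀ t ∈ tTop, inStab [] F22 t = true := by
  have h := checkTop_ok
  simp only [checkTop, Bool.and_eq_true, List.all_eq_true, decide_eq_true_eq] at h
  exact h.1.1.1.1.1

instance : Nonempty (Fin tTop.length) :=
  ⟨⟨0, List.length_pos_iff.2 (by unfold tTop; simp)⟩⟩

theorem isTrans_top : IsTrans (stabGrp [octO] F22) (stabGrp [] F22) (tFun tTop) := by
  have h := checkTop_ok
  simp only [checkTop, Bool.and_eq_true, List.all_eq_true, decide_eq_true_eq, beq_iff_eq] at h
  obtain ⟨⟨⟨⟨⟨hst, hnd⟩, himg⟩, hlt⟩, hoct⟩, hO⟩ := h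
  have hO' : octO ∈ octadList := List.contains_iff_mem.1 hO
  have hmem : ∀ i : Fin tTop.length, inStab [] F22 (tTop.getD i 0) = true := fun i => by
    rw [List.getD_eq_getElem _ _ i.2]
    exact hst _ (List.getElem_mem _)
  have him : ∀ i : Fin tTop.length, tFun tTop i • ptSet octO
      = ptSet (tblImg (tTop.getD i 0) octO) := fun i =>
    (ptSet_tblImg (valid_of_inStab' (hmem i)) _).symm
  refine ⟨stabGrp_octO_le, fun i => mem_stabGrp_of_inStab (hmem i), fun i j hij => ?_,
    fun g hg => ?_⟩
  · have e := hij.2.1 octO (by simp)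
    rw [mul_smul, inv_smul_eq_iff, him, him] at e
    have e' := ptSet_injOn (tblImg_lt (valid_of_inStab' (hmem j)) _)
      (tblImg_lt (valid_of_inStab' (hmem i)) _) e
    have hnd' : (tTop.map fun t => tblImg t octO).Nodup := himg ▸ hnd
    refine Fin.ext ((hnd'.getElem_inj_iff (hi := by simp) (hj := by simp)).1 ?_)
    simp only [List.getElem_map]
    rw [← List.getD_eq_getElem _ 0, ← List.getD_eq_getElem _ 0]
    exact e'.symm
  · have hoc : maskOf (g • ptSet octO) ∈ octadList :=
      mem_octads_iff.1 (smul_mem_octads hg.1 (ptSet_mem_octads hO'))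
    have hbit : ∀ b, b < 24 → F22.testBit b = true → octO.testBit b = true →
        (maskOf (g • ptSet octO)).testBit b = true := by
      intro b hb hF hbO
      have e : idx (pt b) = b := idx_pt b hb
      rw [← e, ← mem_ptSet, ptSet_maskOf]
      have hfix : g (pt b) = pt b := hg.2.2 _ (by rw [mem_ptSet, e]; exact hF)
      rw [← hfix, ← Equiv.Perm.smul_def]
      exact Finset.smul_mem_smul_finset (by rw [mem_ptSet, e]; exact hbO)
    have hin : maskOf (g • ptSet octO) ∈ tTop.map fun t => tblImg t octO := by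
      have := hoct _ hoc
      rw [hbit 23 (by norm_num) (by decide) (by decide),
        hbit 0 (by norm_num) (by decide) (by decide)] at this
      rw [himg]
      exact List.contains_iff_mem.1 (by simpa using this)
    obtain ⟨k, hk, ek⟩ := List.mem_iff_getElem.1 hin
    rw [List.length_map] at hk
    refine ⟨⟨k, hk⟩, ?_⟩
    refine ⟨mul_mem (inv_mem (mem_stabGrp_of_inStab (hmem ⟨k, hk⟩)).1) hg.1, fun e he => ?_,
      fun p hp => ?_⟩
    · rw [List.mem_singleton] at he
      subst he
      rw [mul_smul, inv_smul_eq_iff, him, List.getD_eq_getElem _ _ hk, ← ptSet_maskOf (g • ptSet octO),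
        ← ek, List.getElem_map]
    · exact (mul_mem (inv_mem (mem_stabGrp_of_inStab (hmem ⟨k, hk⟩))) hg).2.2 p hp

lemma card_octStab : Nat.card ↥(stabGrp [octO] F22) = 5760 := by
  have h := isTrans_top.card_eq
  rw [← spor_M22_eq_F22, card_spor_M22, Nat.card_fin,
    show tTop.length = 77 from rfl] at h
  omega

end Cfsg.Agent.H94.M22
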