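import Cfsg.Agent.H94.M22.LowerTop
import Cfsg.Agent.H94.M22.Combine
import Cfsg.Agent.H94.M22.ChkP
import Cfsg.Agent.H94.M22.ChkTwo
import Cfsg.Agent.H94.M22.ChkAssocA
import Cfsg.Agent.H94.M22.ChkAssocB
import Cfsg.Agent.H94.M22.ChkTwoX
import Cfsg.Agent.H94.M22.ChkTwoY
import Cfsg.Agent.H94.M22.ChkSums

/-!
A stem extension of `M22` with kernel cyclic of order four.
-/

set_option autoImplicit false

namespace Cfsg.Agent.H94.M22

open Cfsg Cfsg.Agent.Golay Cfsg.Agent.H94.M24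

attribute [local irreducible] tblMul tblEq validT inStab canonT idTblVal pEls mRows cRows pInvs
  tTwo tTwoInv tTop

lemma pEl_props {u : ℕ} (hu : u < 128) :
    canonT (pEl u) = true ∧ validT (pEl u) = true ∧ mkPerm (pEl u) ∈ stabGrp [octO] F22 := by
  have h := checkP_ok
  simp only [checkP, Bool.and_eq_true, List.all_eq_true, beq_iff_eq] at h
  have hu' : u < pEls.length := by rw [h.1.1.1.1.1.1]; exact hu
  have hm : pEl u ∈ pEls := by
    rw [pEl, List.getD_eq_getElem _ _ hu']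
    exact List.getElem_mem _
  exact ⟨h.1.1.1.1.1.2 _ hm, canonT_validT (h.1.1.1.1.1.2 _ hm),
    mem_stabGrp_of_inStab (h.1.1.1.2 _ hm)⟩

lemma pEl_zero : mkPerm (pEl 0) = 1 := by
  have h := checkP_ok
  simp only [checkP, Bool.and_eq_true] at h
  have := h.1.1.2
  rw [tblEq_iff (pEl_props (by norm_num)).2.1 idTblVal_spec.1, idTblVal_spec.2] at this
  exact this

lemma pMulF_gen {u g : ℕ} (hu : u < 128) (hg : g ∈ pGens) :
    pMulF u g < 128 ∧ mkPerm (pEl (pMulF u g)) = mkPerm (pEl u) * mkPerm (pEl g) := by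
  have h := checkP_ok
  simp only [checkP, Bool.and_eq_true, List.all_eq_true, List.mem_range, decide_eq_true_eq] at h
  obtain ⟨h1, h2⟩ := (h.1.2 u hu).1.1 g hg
  have hg' : g < 128 := by fin_cases hg <;> norm_num
  rw [tblEq_iff (pEl_props h1).2.1 (tblMul_spec (pEl_props hu).2.1 (pEl_props hg').2.1).1,
    (tblMul_spec (pEl_props hu).2.1 (pEl_props hg').2.1).2] at h2
  exact ⟨h1, h2⟩

lemma top_spec {v : ℕ} (hv : v < 128) (h0 : v ≠ 0) :
    topBit v ∈ pGens ∧ v - topBit v < v ∧ pMulF (v - topBit v) (topBit v) = v := by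
  have h := checkP_ok
  simp only [checkP, Bool.and_eq_true, List.all_eq_true, List.mem_range] at h
  have := h.2 v hv
  simp only [Bool.or_eq_true, beq_iff_eq, h0, false_or, Bool.and_eq_true, decide_eq_true_eq,
    List.contains_iff_mem] at this
  exact ⟨this.1.1, this.1.2, this.2⟩

lemma assoc_row {u : ℕ} (hu : u < 128) : ∀ v < 128, pMulF u v < 128 ∧ ∀ g ∈ pGens,
    pMulF u (pMulF v g) = pMulF (pMulF u v) g ∧
    (pCoc u v + pCoc (pMulF u v) g) % 4 = (pCoc v g + pCoc u (pMulF v g)) % 4 := by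
  have key : ∀ a b, checkAssoc a b = true → a ≤ u → u < a + b →
      ∀ v < 128, pMulF u v < 128 ∧ ∀ g ∈ pGens,
        pMulF u (pMulF v g) = pMulF (pMulF u v) g ∧
        (pCoc u v + pCoc (pMulF u v) g) % 4 = (pCoc v g + pCoc u (pMulF v g)) % 4 := by
    intro a b h ha hb v hv
    simp only [checkAssoc, List.all_eq_true, forceN_eq] at h
    have hl : mRows.length = 128 ∧ cRows.length = 128 := by unfold mRows cRows; exact ⟨rfl, rfl⟩
    have hr := h u (List.mem_range'_1.2 ⟨ha, hb⟩) ((mRows.getD v 0, cRows.getD v 0), v) (by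
      rw [List.mem_zipIdx_iff_getElem?, List.getElem?_eq_getElem (by simp [hl, hv])]
      simp [List.getElem?_eq_getElem, hl, hv])
    simp only [Bool.and_eq_true, decide_eq_true_eq, List.all_eq_true, beq_iff_eq] at hr
    refine ⟨hr.1, fun g hg => ⟨(hr.2 g hg).1, (hr.2 g hg).2⟩⟩
  rcases (by omega : u < 8 ∨ (8 ≤ u ∧ u < 16) ∨ (16 ≤ u ∧ u < 24) ∨ (24 ≤ u ∧ u < 32) ∨
    (32 ≤ u ∧ u < 40) ∨ (40 ≤ u ∧ u < 48) ∨ (48 ≤ u ∧ u < 56) ∨ (56 ≤ u ∧ u < 64) ∨
    (64 ≤ u ∧ u < 72) ∨ (72 ≤ u ∧ u < 80) ∨ (80 ≤ u ∧ u < 88) ∨ (88 ≤ u ∧ u < 96) ∨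
    (96 ≤ u ∧ u < 104) ∨ (104 ≤ u ∧ u < 112) ∨ (112 ≤ u ∧ u < 120) ∨ 120 ≤ u) with
    h | ⟨h, h'⟩ | ⟨h, h'⟩ | ⟨h, h'⟩ | ⟨h, h'⟩ | ⟨h, h'⟩ | ⟨h, h'⟩ | ⟨h, h'⟩ | ⟨h, h'⟩ | ⟨h, h'⟩ |
      ⟨h, h'⟩ | ⟨h, h'⟩ | ⟨h, h'⟩ | ⟨h, h'⟩ | ⟨h, h'⟩ | h
  exacts [key _ _ checkAssoc_ok0 (Nat.zero_le _) h, key _ _ checkAssoc_ok1 h h',
    key _ _ checkAssoc_ok2 h h', key _ _ checkAssoc_ok3 h h', key _ _ checkAssoc_ok4 h h',
    key _ _ checkAssoc_ok5 h h', key _ _ checkAssoc_ok6 h h', key _ _ checkAssoc_ok7 h h',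
    key _ _ checkAssoc_ok8 h h', key _ _ checkAssoc_ok9 h h', key _ _ checkAssoc_ok10 h h',
    key _ _ checkAssoc_ok11 h h', key _ _ checkAssoc_ok12 h h', key _ _ checkAssoc_ok13 h h',
    key _ _ checkAssoc_ok14 h h', key _ _ checkAssoc_ok15 h hu]

lemma pMulF_mul {u v : ℕ} (hu : u < 128) (hv : v < 128) :
    mkPerm (pEl (pMulF u v)) = mkPerm (pEl u) * mkPerm (pEl v) := by
  induction v using Nat.strong_induction_on with
  | _ v ih =>
    rcases eq_or_ne v 0 with rfl | h0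
    · exact (pMulF_gen hu (by decide)).2
    obtain ⟨hg, hlt, he⟩ := top_spec hv h0
    have hv' : v - topBit v < 128 := by omega
    have h := ((assoc_row hu _ hv').2 _ hg).1
    rw [he] at h
    have hl := (assoc_row hu _ hv').1
    rw [h, (pMulF_gen hl hg).2, ih _ hlt hv', mul_assoc, ← (pMulF_gen hv' hg).2, he]

lemma pCoc_cocycle {w : ℕ} (hw : w < 128) : ∀ {u v : ℕ}, u < 128 → v < 128 →
    pMulF u (pMulF v w) = pMulF (pMulF u v) w ∧
    ((pCoc u v : ZMod 4) + pCoc (pMulF u v) w = pCoc v w + pCoc u (pMulF v w)) := by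
  have hg0 : ∀ {g u v : ℕ}, g ∈ pGens → u < 128 → v < 128 →
      pMulF u (pMulF v g) = pMulF (pMulF u v) g ∧
      ((pCoc u v : ZMod 4) + pCoc (pMulF u v) g = pCoc v g + pCoc u (pMulF v g)) := by
    intro g u v hg hu hv
    refine ⟨((assoc_row hu v hv).2 g hg).1, ?_⟩
    rw [← Nat.cast_add, ← Nat.cast_add, ZMod.natCast_eq_natCast_iff]
    exact ((assoc_row hu v hv).2 g hg).2
  induction w using Nat.strong_induction_on with
  | _ w ih =>
    intro u v hu hv
    rcases eq_or_ne w 0 with rfl | h0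
    · exact hg0 (by decide) hu hv
    obtain ⟨hg, hlt, he⟩ := top_spec hw h0
    have hw' : w - topBit w < 128 := by omega
    have huv := (assoc_row hu v hv).1
    have hvw := (assoc_row hv _ hw').1
    obtain ⟨a1, c1⟩ := ih _ hlt hw' hu hv
    obtain ⟨a2, c2⟩ := hg0 hg huv hw'
    obtain ⟨a3, c3⟩ := hg0 hg hu hvw
    obtain ⟨a4, c4⟩ := hg0 hg hv hw'
    rw [he] at a2 c2 a4 c4
    rw [← a4] at a3 c3
    rw [← a1] at a2 c2
    refine ⟨a3.trans a2.symm, ?_⟩
    linear_combination c1 - c2 + c3 + c4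

/-- The Sylow 2-subgroup. -/
noncomputable def pSub : Subgroup (Equiv.Perm GolayPt) where
  carrier := {σ | ∃ u < 128, mkPerm (pEl u) = σ}
  one_mem' := ⟨0, by norm_num, pEl_zero⟩
  mul_mem' := by
    rintro _ _ ⟨u, hu, rfl⟩ ⟨v, hv, rfl⟩
    exact ⟨_, (assoc_row hu v hv).1, pMulF_mul hu hv⟩
  inv_mem' := by
    rintro _ ⟨u, hu, rfl⟩
    have h := checkP_ok
    simp only [checkP, Bool.and_eq_true, List.all_eq_true, List.mem_range, decide_eq_true_eq] at h
    obtain ⟨⟨-, h1⟩, h2⟩ := h.1.2 u hu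
    have hs := tblMul_spec (pEl_props h1).2.1 (pEl_props hu).2.1
    rw [tblEq_iff hs.1 idTblVal_spec.1, hs.2, idTblVal_spec.2] at h2
    exact ⟨_, h1, eq_inv_of_mul_eq_one_left h2⟩

/-- The index of an element of the Sylow 2-subgroup. -/
noncomputable def pIdx (σ : Equiv.Perm GolayPt) : ℕ := pEls.idxOf (tblOf σ)

/-- The cocycle on the Sylow 2-subgroup. -/
noncomputable def pC (σ τ : Equiv.Perm GolayPt) : ZMod 4 := pCoc (pIdx σ) (pIdx τ)

lemma pIdx_el {u : ℕ} (hu : u < 128) : pIdx (mkPerm (pEl u)) = u := by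
  have h := checkP_ok
  simp only [checkP, Bool.and_eq_true, decide_eq_true_eq, beq_iff_eq] at h
  rw [pIdx, tblOf_mkPerm (pEl_props hu).1, pEl,
    List.getD_eq_getElem _ _ (by rw [h.1.1.1.1.1.1]; exact hu)]
  exact List.Nodup.idxOf_getElem h.1.1.1.1.2 _ _

lemma isCoc_pC : IsCoc pSub pC := by
  rintro _ ⟨u, hu, rfl⟩ _ ⟨v, hv, rfl⟩ _ ⟨w, hw, rfl⟩
  simp only [pC, ← pMulF_mul hu hv, ← pMulF_mul hv hw, pIdx_el hu, pIdx_el hv, pIdx_el hw,
    pIdx_el (assoc_row hu v hv).1, pIdx_el (assoc_row hv w hw).1]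
  exact (pCoc_cocycle hw hu hv).2

lemma card_pSub : Nat.card pSub = 128 := by
  have h := checkP_ok
  simp only [checkP, Bool.and_eq_true, decide_eq_true_eq, beq_iff_eq] at h
  show Nat.card {σ // ∃ u < 128, mkPerm (pEl u) = σ} = 128
  rw [natCard_eq_length (fun σ => ∃ u < 128, mkPerm (pEl u) = σ) pEls h.1.1.1.1.2
    (fun t ht => ?_) (fun σ ⟨u, hu, e⟩ => ⟨pEl u, ?_, e⟩)]
  · exact h.1.1.1.1.1.1
  · obtain ⟨k, hk, rfl⟩ := List.mem_iff_getElem.1 ht
    have hk' : k < 128 := h.1.1.1.1.1.1 ▸ hk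
    rw [← List.getD_eq_getElem _ 0 hk]
    exact ⟨(pEl_props hk').1, k, hk', rfl⟩
  · rw [pEl, List.getD_eq_getElem _ _ (by rw [h.1.1.1.1.1.1]; exact hu)]
    exact List.getElem_mem _

instance : Nonempty (Fin tTwo.length) :=
  ⟨⟨0, List.length_pos_iff.2 (by unfold tTwo; simp)⟩⟩

lemma pSub_le : pSub ≤ stabGrp [octO] F22 := by
  rintro _ ⟨u, hu, rfl⟩
  exact (pEl_props hu).2.2

lemma tTwo_inStab : ∀ t ∈ tTwo, inStab [octO] F22 t = true := by
  have h := checkTwo_ok
  simp only [checkTwo, Bool.and_eq_true, List.all_eq_true] at h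
  exact h.1.1.1

theorem isTrans_two : IsTrans pSub (stabGrp [octO] F22) (tFun tTwo) := by
  have h := checkTwo_ok
  simp only [checkTwo, Bool.and_eq_true, List.all_eq_true, beq_iff_eq] at h
  obtain ⟨⟨⟨hst, hiv⟩, hlen⟩, hinv⟩ := h
  have hl : tTwo.length = 45 := by unfold tTwo; rfl
  refine IsTrans.of_card pSub_le (fun i => mem_stabGrp_of_inStab ?_) (fun i j hij => ?_) ?_
  · rw [List.getD_eq_getElem _ _ i.2]; exact hst _ (List.getElem_mem _)
  · have hi : (i : ℕ) < tTwoInv.length := hlen.symm ▸ i.2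
    have hvi : validT (tTwoInv.getD i 0) = true := by
      rw [List.getD_eq_getElem _ _ hi]; exact hiv _ (List.getElem_mem _)
    have hv : ∀ k : Fin tTwo.length, validT (tTwo.getD k 0) = true := fun k => by
      rw [List.getD_eq_getElem _ _ k.2]
      exact valid_of_inStab' (hst _ (List.getElem_mem _))
    have he := all_zip 0 0 hlen.symm (List.all_eq_true.2 hinv) hi
    simp only at he
    rw [tblEq_iff (tblMul_spec hvi (hv i)).1 idTblVal_spec.1, (tblMul_spec hvi (hv i)).2,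
      idTblVal_spec.2] at he
    have e' : (tFun tTwo i)⁻¹ = mkPerm (tTwoInv.getD i 0) := (eq_inv_of_mul_eq_one_left he).symm
    rw [e', tFun, ← (tblMul_spec hvi (hv j)).2] at hij
    obtain ⟨u, hu, eu⟩ := hij
    have em : tblMul (tTwoInv.getD i 0) (tTwo.getD j 0) ∈ pEls := by
      have hl' : u < pEls.length := by unfold pEls; exact hu
      rw [← tblOf_mkPerm (canonT_tblMul hvi (hv j)), ← eu, tblOf_mkPerm (pEl_props hu).1, pEl,
        List.getD_eq_getElem _ _ hl']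
      exact List.getElem_mem _
    have key : ∀ a b, checkTwoInj a b = true → a ≤ (i : ℕ) → (i : ℕ) < a + b → i = j := by
      intro a b hc ha hb
      simp only [checkTwoInj, List.all_eq_true, forceN_eq] at hc
      have := hc i (List.mem_range'_1.2 ⟨ha, hb⟩) (tTwo.getD j 0, (j : ℕ)) (by
        rw [List.mem_zipIdx_iff_getElem?]
        simp)
      simp only [Bool.or_eq_true, beq_iff_eq, Bool.not_eq_true', List.contains_iff_mem.2 em,
        Bool.true_eq_false, or_false] at this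
      exact Fin.ext this
    rcases lt_or_ge (i : ℕ) 23 with hi' | hi'
    · exact key _ _ checkTwoInj_ok0 (Nat.zero_le _) hi'
    · exact key _ _ checkTwoInj_ok1 hi' (by omega)
  · rw [card_octStab, card_pSub, Nat.card_fin, hl]

lemma okP_iff {u : ℕ} : okP u = true ↔ u < 128 := by simp [okP]

lemma cor_two {x y : ℕ} (hx : inStab [] F22 x = true) (hy : inStab [] F22 y = true)
    {X Y : List CRow} (hX : outerOK octO F22 tTop x X = true) (hY : outerOK octO F22 tTop y Y = true)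
    (hX' : X.all (innerOK tTwo pEl okP) = true) (hY' : Y.all (innerOK tTwo pEl okP) = true) :
    cor (stabGrp [octO] F22) (tFun tTop) (cor pSub (tFun tTwo) pC) (mkPerm x) (mkPerm y)
      = (certSum 77 45 pCoc X Y : ZMod 4) := by
  rw [cor_eq_certSum isTrans_top (fun t ht => valid_of_inStab' (tTop_inStab t ht)) isTrans_two
    (fun t ht => valid_of_inStab' (tTwo_inStab t ht)) (fun q hq => (pEl_props (okP_iff.1 hq)).2.1)
    (fun q hq _ => ⟨q, okP_iff.1 hq, rfl⟩) pC pCoc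
    (fun p q hp hq => by rw [pC, pIdx_el (okP_iff.1 hp), pIdx_el (okP_iff.1 hq)])
    (valid_of_inStab' hx) (valid_of_inStab' hy) hX hY hX' hY',
    show tTop.length = 77 by unfold tTop; rfl, show tTwo.length = 45 by unfold tTwo; rfl]

lemma witness_two : inStab [] F22 x4 = true ∧ inStab [] F22 y4 = true ∧ commB x4 y4 = true := by
  decide +kernel

/-- The extension with kernel of order four. -/
theorem exists_stem_four :
    ∃ (Γ : Type) (_ : Group Γ) (_ : Finite Γ) (σ : Γ →* ↥(stabGrp [] F22)),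
      IsStemExtension σ ∧ Nonempty (σ.ker ≃* Multiplicative (ZMod 4)) := by
  obtain ⟨hx, hy, hxy⟩ := witness_two
  rw [commB_iff (valid_of_inStab' hx) (valid_of_inStab' hy)] at hxy
  have hX : certX4.all (innerOK tTwo pEl okP) = true := by
    rw [certX4, List.all_append, List.all_append, certX4_inner0, certX4_inner1, certX4_inner2]; rfl
  have hY : certY4.all (innerOK tTwo pEl okP) = true := by
    rw [certY4, List.all_append, List.all_append, certY4_inner0, certY4_inner1, certY4_inner2]; rfl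
  refine exists_stem_of_cocycle _ (isCoc_cor isTrans_top (isCoc_cor isTrans_two isCoc_pC))
    (x := ⟨_, mem_stabGrp_of_inStab hx⟩) (y := ⟨_, mem_stabGrp_of_inStab hy⟩) (Subtype.ext hxy)
    fun a => ?_
  rw [cor_two hx hy certX4_outer certY4_outer hX hY, cor_two hy hx certY4_outer certX4_outer hY hX,
    certSum_two.1, certSum_two.2]
  revert a
  exact fun a => ⟨a.val, by revert a; decide⟩

end Cfsg.Agent.H94.M22
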