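import Cfsg.Agent.H94.M22.UpperCert
import Cfsg.Agent.H94.Mult.ThreePart

/-!
The 3-part of the kernel of a stem extension of `M22` is cyclic of order at most three.
-/

set_option autoImplicit false

namespace Cfsg.Agent.H94.M22

open Cfsg Cfsg.Agent.Golay Cfsg.Agent.H94.M24
open Cfsg.Agent.H94.Mult (comm_mem_of_closure)
open scoped commutatorElement

attribute [local irreducible] tblMul validT idTblVal inStab commB tblEq

variable {Γ : Type} [Group Γ] [Finite Γ] (σ : Γ →* ↥(stabGrp [] F22))

/-- A central element of order dividing three whose powers exhaust the 3-part. -/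
theorem exists_gen_three (x y : ℕ) (hx : inStab [] F22 x = true) (hy : inStab [] F22 y = true)
    (hxy : commB x y = true) (hx3 : tblEq (powT 3 x) idTblVal = true)
    (hy3 : tblEq (powT 3 y) idTblVal = true)
    (hnd : ([0, 1, 2].flatMap fun i => [0, 1, 2].map fun j =>
      tblMul (powT i x) (powT j y)).Nodup)
    (hcan : ([0, 1, 2].flatMap fun i => [0, 1, 2].map fun j =>
      tblMul (powT i x) (powT j y)).all canonT = true)
    {r : ℕ} (hr : Nat.Coprime 3 r) (hK : Nat.card ↥(stabGrp [] F22) = 9 * r)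
    (hσ : IsStemExtension σ) :
    ∃ w ∈ σ.ker, w ^ 3 = 1 ∧
      ∀ z ∈ σ.ker, ∀ j : ℕ, z ^ 3 ^ j = 1 → z ∈ Subgroup.zpowers w := by
  set ρ : Γ →* Equiv.Perm GolayPt := (stabGrp [] F22).subtype.comp σ with hρdef
  have hker : ∀ a, ρ a = 1 ↔ a ∈ σ.ker := fun a => by
    rw [MonoidHom.mem_ker]
    exact ⟨fun h => Subtype.ext h, fun h => by simp [hρdef, h]⟩
  have hcen : ∀ a, ρ a = 1 → ∀ b : Γ, b * a = a * b := fun a ha b =>
    Subgroup.mem_center_iff.1 (hσ.2.1 ((hker a).1 ha)) b
  have hval : ∀ t, inStab [] F22 t = true → validT t = true := fun t ht => by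
    unfold inStab at ht
    simp only [Bool.and_eq_true] at ht
    exact validT_of_inM24 ht.1.1
  have vx := hval _ hx
  have vy := hval _ hy
  rw [commB_iff vx vy] at hxy
  rw [tblEq_iff (powT_spec vx 3).1 idTblVal_spec.1, (powT_spec vx 3).2, idTblVal_spec.2] at hx3
  rw [tblEq_iff (powT_spec vy 3).1 idTblVal_spec.1, (powT_spec vy 3).2, idTblVal_spec.2] at hy3
  obtain ⟨X, hX'⟩ := hσ.1 ⟨_, mem_stabGrp_of_inStab hx⟩
  obtain ⟨Y, hY'⟩ := hσ.1 ⟨_, mem_stabGrp_of_inStab hy⟩
  have hX : ρ X = mkPerm x := by simp [hρdef, hX']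
  have hY : ρ Y = mkPerm y := by simp [hρdef, hY']
  set W := ⁅X, Y⁆ with hWdef
  have hW1 : ρ W = 1 := by
    rw [hWdef, map_commutatorElement, hX, hY]
    exact commutatorElement_eq_one_iff_mul_comm.2 hxy
  have hW3 : W ^ 3 = 1 := by
    have hX3 : ρ (X ^ 3) = 1 := by rw [map_pow, hX, hx3]
    have e : Y * X * Y⁻¹ = W⁻¹ * X := by rw [hWdef, commutatorElement_def]; group
    have e3 : (W⁻¹ * X) ^ 3 = X ^ 3 := by
      rw [← e, conj_pow, hcen _ hX3 Y, mul_inv_cancel_right]
    have hc : Commute W⁻¹ X := ((show Commute X W from hcen W hW1 X).symm).inv_left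
    rw [hc.mul_pow, mul_eq_right, inv_pow, inv_eq_one] at e3
    exact e3
  refine ⟨W, (hker W).1 hW1, hW3, fun z hz j hzj => ?_⟩
  set l : List ℕ := [0, 1, 2].flatMap fun i => [0, 1, 2].map fun j =>
    tblMul (powT i x) (powT j y) with hl
  set Q : Subgroup (Equiv.Perm GolayPt) := Subgroup.closure {mkPerm x, mkPerm y} with hQ
  have hform : ∀ g ∈ Q, ∃ i < 3, ∃ j < 3, mkPerm x ^ i * mkPerm y ^ j = g := by
    intro g hg
    have hg' : g ∈ Submonoid.closure {mkPerm x, mkPerm y} := by
      rw [← Subgroup.closure_toSubmonoid_of_finite]; exact hg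
    clear hg
    induction hg' using Submonoid.closure_induction_right with
    | one => exact ⟨0, by norm_num, 0, by norm_num, by simp⟩
    | mul_right g _ a ha ih =>
      obtain ⟨i, hi, k, hk, rfl⟩ := ih
      have hc : Commute (mkPerm y ^ k) (mkPerm x) := (Commute.pow_left (Eq.symm hxy) k)
      rcases ha with rfl | rfl
      · refine ⟨(i + 1) % 3, Nat.mod_lt _ (by norm_num), k, hk, ?_⟩
        rw [← pow_eq_pow_mod _ hx3, pow_succ, mul_assoc _ (mkPerm x), ← hc.eq, ← mul_assoc]
      · refine ⟨i, hi, (k + 1) % 3, Nat.mod_lt _ (by norm_num), ?_⟩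
        rw [← pow_eq_pow_mod _ hy3, pow_succ, mul_assoc]
  have hmemQ : ∀ i j : ℕ, mkPerm x ^ i * mkPerm y ^ j ∈ Q := fun i j =>
    mul_mem (pow_mem (Subgroup.subset_closure (by simp)) i)
      (pow_mem (Subgroup.subset_closure (by simp)) j)
  have hcardQ : Nat.card Q = 9 := by
    have := natCard_eq_length (fun g => g ∈ Q) l hnd
      (fun t ht => by
        refine ⟨List.all_eq_true.1 hcan t ht, ?_⟩
        simp only [hl, List.mem_flatMap, List.mem_map] at ht
        obtain ⟨i, -, j, -, rfl⟩ := ht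
        rw [(tblMul_spec (powT_spec vx i).1 (powT_spec vy j).1).2, (powT_spec vx i).2,
          (powT_spec vy j).2]
        exact hmemQ i j)
      (fun g hg => by
        obtain ⟨i, hi, j, hj, rfl⟩ := hform g hg
        refine ⟨tblMul (powT i x) (powT j y), ?_, ?_⟩
        · simp only [hl, List.mem_flatMap, List.mem_map]
          exact ⟨i, by interval_cases i <;> simp, j, by interval_cases j <;> simp, rfl⟩
        · rw [(tblMul_spec (powT_spec vx i).1 (powT_spec vy j).1).2, (powT_spec vx i).2,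
            (powT_spec vy j).2])
    simpa [hl] using this
  have hQK : Q ≤ stabGrp [] F22 := by
    rw [hQ, Subgroup.closure_le]
    rintro _ (rfl | rfl)
    exacts [mem_stabGrp_of_inStab hx, mem_stabGrp_of_inStab hy]
  have hidx : Nat.Coprime 3 (Q.subgroupOf (stabGrp [] F22)).index := by
    have h := Subgroup.card_mul_index (Q.subgroupOf (stabGrp [] F22))
    rw [Nat.card_congr (Subgroup.subgroupOfEquivOfLe hQK).toEquiv, hcardQ, hK] at h
    rw [Nat.eq_of_mul_eq_mul_left (by norm_num) h]
    exact hr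
  obtain ⟨hzQ, hzc⟩ := Cfsg.Agent.H50.mem_commutator_comap (p := 3 ^ j) hσ _
    (Nat.Coprime.pow_left _ hidx) z hz hzj
  set P0 := (Q.subgroupOf (stabGrp [] F22)).comap σ with hP0
  have hzP : z ∈ ⁅P0, P0⁆ := by
    rw [← Subgroup.map_subtype_commutator]
    exact ⟨_, hzc, rfl⟩
  set s : Set Γ := {X, Y} ∪ {a | ρ a = 1} with hs
  have hgenP0 : Subgroup.closure s = P0 := by
    refine le_antisymm ?_ fun a ha => ?_
    · rw [Subgroup.closure_le]
      rintro a ((rfl | rfl) | ha)
      · show ρ a ∈ Q; rw [hX]; exact Subgroup.subset_closure (by simp)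
      · show ρ a ∈ Q; rw [hY]; exact Subgroup.subset_closure (by simp)
      · show ρ a ∈ Q; rw [show ρ a = 1 from ha]; exact one_mem _
    · obtain ⟨i, -, k, -, hik⟩ := hform _ (show ρ a ∈ Q from ha)
      have h1 : (X ^ i * Y ^ k)⁻¹ * a ∈ Subgroup.closure s :=
        Subgroup.subset_closure (.inr (by
          show ρ ((X ^ i * Y ^ k)⁻¹ * a) = 1
          rw [map_mul, map_inv, map_mul, map_pow, map_pow, hX, hY, hik, inv_mul_cancel]))
      have h2 : X ^ i * Y ^ k ∈ Subgroup.closure s :=
        mul_mem (pow_mem (Subgroup.subset_closure (by simp [hs])) i)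
          (pow_mem (Subgroup.subset_closure (by simp [hs])) k)
      have := mul_mem h2 h1
      rwa [mul_inv_cancel_left] at this
  have hWn : P0 ≤ Subgroup.normalizer (Subgroup.zpowers W : Set Γ) := by
    intro a _
    refine Subgroup.mem_normalizer_iff.2 fun b => ?_
    constructor
    · intro hb
      obtain ⟨n, rfl⟩ := Subgroup.mem_zpowers_iff.1 hb
      rw [hcen (W ^ n) (by rw [map_zpow, hW1, one_zpow]) a, mul_inv_cancel_right]
      exact hb
    · intro hb
      obtain ⟨n, hn⟩ := Subgroup.mem_zpowers_iff.1 hb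
      have : b = W ^ n := by
        calc b = a⁻¹ * (a * b * a⁻¹) * a := by group
          _ = a⁻¹ * W ^ n * a := by rw [hn]
          _ = W ^ n := by
            rw [hcen (W ^ n) (by rw [map_zpow, hW1, one_zpow]) a⁻¹, inv_mul_cancel_right]
      rw [this]
      exact Subgroup.zpow_mem_zpowers W n
  have hgens : ∀ a ∈ s, ∀ b ∈ s, ⁅a, b⁆ ∈ Subgroup.zpowers W := by
    have hzero : ∀ a b : Γ, ρ a = 1 → ⁅a, b⁆ ∈ Subgroup.zpowers W := fun a b h => by
      rw [commutatorElement_eq_one_iff_mul_comm.2 (hcen a h b).symm]; exact one_mem _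
    rintro a ((rfl | rfl) | ha) b hb
    · rcases hb with (rfl | rfl) | hb
      · rw [commutatorElement_eq_one_iff_mul_comm.2 rfl]; exact one_mem _
      · exact Subgroup.mem_zpowers W
      · rw [← commutatorElement_inv]; exact inv_mem (hzero _ _ hb)
    · rcases hb with (rfl | rfl) | hb
      · rw [← commutatorElement_inv]; exact inv_mem (Subgroup.mem_zpowers W)
      · rw [commutatorElement_eq_one_iff_mul_comm.2 rfl]; exact one_mem _
      · rw [← commutatorElement_inv]; exact inv_mem (hzero _ _ hb)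
    · exact hzero _ _ ha
  have hcom : ⁅P0, P0⁆ ≤ Subgroup.zpowers W := by
    rw [Subgroup.commutator_le]
    intro a ha b hb
    rw [← commutatorElement_inv]
    refine inv_mem (comm_mem_of_closure hWn hgenP0 (g := a) (fun c hc => ?_) b hb)
    rw [← commutatorElement_inv]
    exact inv_mem (comm_mem_of_closure hWn hgenP0 (g := c) (fun d hd => hgens d hd c hc) a ha)
  exact hcom hzP

end Cfsg.Agent.H94.M22
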