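import Cfsg.Agent.H94.M22.LowerTwo
import Cfsg.Agent.H94.M22.LowerThree
import Cfsg.Agent.H94.M22.ChkUpper
import Cfsg.Agent.H94.M22.UpperSound
import Cfsg.Agent.H94.M22.ThreeUpper
import Cfsg.Agent.H50.MultiplierBound

/-!
The Schur multiplier of `M22` is cyclic of order twelve.
-/

set_option autoImplicit false

namespace Cfsg.Agent.H94.M22

open Cfsg Cfsg.Agent.Golay Cfsg.Agent.H94.M24

lemma card_M22' : Nat.card ↥(stabGrp [] F22) = 443520 := by
  rw [← spor_M22_eq_F22, card_spor_M22]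

lemma commutator_M22 : commutator ↥(stabGrp [] F22) = ⊤ := by
  haveI := isSimpleGroup_spor_M22
  rw [← spor_M22_eq_F22]
  refine commutator_eq_top_of_simple ?_
  by_contra h
  push Not at h
  letI : CommGroup ↥Spor.M22 := { (inferInstance : Group ↥Spor.M22) with mul_comm := h }
  have hp := (IsSimpleGroup.prime_card : (Nat.card ↥Spor.M22).Prime)
  rw [card_spor_M22] at hp
  norm_num at hp

lemma three_tables :
    inStab [] F22 x3 = true ∧ inStab [] F22 y3 = true ∧ commB x3 y3 = true ∧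
    tblEq (powT 3 x3) idTblVal = true ∧ tblEq (powT 3 y3) idTblVal = true ∧
    ([0, 1, 2].flatMap fun i => [0, 1, 2].map fun j =>
      tblMul (powT i x3) (powT j y3)).Nodup ∧
    ([0, 1, 2].flatMap fun i => [0, 1, 2].map fun j =>
      tblMul (powT i x3) (powT j y3)).all canonT = true := by
  decide +kernel

theorem exists_surjective_twelve {Γ : Type} [Group Γ] [Finite Γ]
    (σ : Γ →* ↥(stabGrp [] F22)) (hσ : IsStemExtension σ) :
    ∃ f : Multiplicative (ZMod 12) →* σ.ker, Function.Surjective f := by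
  obtain ⟨hx, hy, hxy, hx3, hy3, hnd, hcan⟩ := three_tables
  refine Cfsg.Agent.H50.exists_surjective_of_parts (n₂ := 4) (n₃ := 3) hσ (by norm_num) ?_ ?_ ?_
  · exact upper22.exists_gen_two σ upper22_Tables upper22_Group upper22_Forms (r := 3465)
      (by decide) (by rw [card_M22']; rfl) hσ
  · exact exists_gen_three σ x3 y3 hx hy hxy hx3 hy3 hnd hcan (r := 49280) (by norm_num)
      (by rw [card_M22']) hσ
  · intro p hp h2 h3 z hz hzp
    refine Cfsg.Agent.H50.eq_one_of_sq_not_dvd hσ hp ?_ z hz hzp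
    rw [card_M22']
    intro hd
    have hle : p * p ≤ 443520 := Nat.le_of_dvd (by norm_num) (sq p ▸ hd)
    have hp5 : 5 ≤ p := by
      have := hp.two_le
      rcases (by omega : p = 4 ∨ 5 ≤ p) with rfl | h
      · norm_num at hp
      · exact h
    have hp' : p ∣ 443520 := (dvd_pow_self p two_ne_zero).trans hd
    have hfac : 443520 = 2 ^ 7 * 3 ^ 2 * 5 * 7 * 11 := by norm_num
    rw [hfac] at hp'
    rcases hp.dvd_mul.1 hp' with h | h
    rcases hp.dvd_mul.1 h with h | h
    rcases hp.dvd_mul.1 h with h | h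
    rcases hp.dvd_mul.1 h with h | h
    · exact h2 ((Nat.prime_dvd_prime_iff_eq hp Nat.prime_two).1 (hp.dvd_of_dvd_pow h))
    · exact h3 ((Nat.prime_dvd_prime_iff_eq hp Nat.prime_three).1 (hp.dvd_of_dvd_pow h))
    all_goals
      have := Nat.le_of_dvd (by norm_num) h
      interval_cases p <;> first | (norm_num at hd; done) | (norm_num at h; done) | norm_num at hp

theorem exists_stem_twelve :
    ∃ (Γ : Type) (_ : Group Γ) (_ : Finite Γ) (σ : Γ →* ↥(stabGrp [] F22)),
      IsStemExtension σ ∧ Nonempty (σ.ker ≃* Multiplicative (ZMod 12)) := by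
  obtain ⟨Γ₁, i₁, j₁, σ₁, h₁, ⟨e₁⟩⟩ := exists_stem_four
  obtain ⟨Γ₂, i₂, j₂, σ₂, h₂, ⟨e₂⟩⟩ := exists_stem_three
  obtain ⟨Γ, i, j, σ, h, ⟨e⟩⟩ := exists_stem_prod (by simp only [Nat.card_congr Multiplicative.toAdd, Nat.card_zmod]; norm_num)
    commutator_M22 σ₁ h₁ e₁ σ₂ h₂ e₂
  exact ⟨Γ, i, j, σ, h, ⟨e.trans ((MulEquiv.prodMultiplicative (ZMod 4) (ZMod 3)).symm.trans
    (AddEquiv.toMultiplicative (ZMod.chineseRemainder (by norm_num)).symm.toAddEquiv))⟩⟩

theorem hasCyclicSchurMultiplier_M22 :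
    HasCyclicSchurMultiplier ↥Spor.M22 12 := by
  rw [spor_M22_eq_F22]
  exact ⟨exists_stem_twelve, fun Γ _ _ σ hσ => exists_surjective_twelve σ hσ⟩

end Cfsg.Agent.H94.M22
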