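import Cfsg.Agent.H94.Mult.Collector

/-!
Collection in a central extension of a polycyclically presented 2-group, carrying the unknown
central tails as integer linear forms.
-/

set_option autoImplicit false

namespace Cfsg.Agent.H94.M22

open Cfsg.Agent.H94.Mult (bitsOf topBit topBit_above)

/-- Sum of two integer forms. -/
def addF : List ℤ → List ℤ → List ℤ
  | [], b => b
  | a, [] => a
  | x :: a, y :: b => (x + y) :: addF a b

/-- Multiple of an integer form. -/
def smulF (k : ℤ) (a : List ℤ) : List ℤ := a.map (k * ·)

/-- The form of one unknown. -/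
def unitF (v : ℕ) : List ℤ := List.replicate v 0 ++ [1]

/-- All coefficients vanish. -/
def isZeroF (a : List ℤ) : Bool := a.all (· == 0)

section

variable {A : Type*} [AddCommGroup A]

/-- Value of an integer form, the unknowns numbered from `k`. -/
def valAt (a : ℕ → A) : List ℤ → ℕ → A
  | [], _ => 0
  | x :: t, k => x • a k + valAt a t (k + 1)

lemma valAt_addF (a : ℕ → A) : ∀ (f g : List ℤ) (k : ℕ),
    valAt a (addF f g) k = valAt a f k + valAt a g k
  | [], g, k => by simp [addF, valAt]
  | x :: f, [], k => by simp [addF, valAt]
  | x :: f, y :: g, k => by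
    simp only [addF, valAt, valAt_addF a f g (k + 1), add_smul]
    abel

lemma valAt_smulF (a : ℕ → A) (c : ℤ) : ∀ (f : List ℤ) (k : ℕ),
    valAt a (smulF c f) k = c • valAt a f k
  | [], k => by simp [smulF, valAt]
  | x :: f, k => by
    have := valAt_smulF a c f (k + 1)
    simp only [smulF, List.map_cons, valAt] at this ⊢
    rw [this, smul_add, smul_smul]

lemma valAt_unitF (a : ℕ → A) : ∀ (v k : ℕ), valAt a (unitF v) k = a (k + v)
  | 0, k => by simp [unitF, valAt]
  | v + 1, k => by
    have := valAt_unitF a v (k + 1)
    simp only [unitF, List.replicate_succ, List.cons_append, valAt, zero_smul, zero_add] at this ⊢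
    rw [this, Nat.add_assoc, Nat.add_comm 1 v]

lemma valAt_of_isZeroF (a : ℕ → A) : ∀ (f : List ℤ) (k : ℕ), isZeroF f = true → valAt a f k = 0
  | [], _, _ => rfl
  | x :: f, k, h => by
    simp only [isZeroF, List.all_cons, Bool.and_eq_true, beq_iff_eq] at h
    simp [valAt, h.1, valAt_of_isZeroF a f (k + 1) h.2]

end

/-- Rules: squares `g i ^ 2 = nf w · tail` and `g j · g i = g i · g j · nf w · tail` for `i < j`. -/
structure ZRules where
  /-- Number of generators. -/
  n : ℕ
  /-- Square rules. -/
  sq : ℕ → ℕ × List ℤ
  /-- Commutator rules. -/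
  cm : ℕ → ℕ → ℕ × List ℤ

/-- Fold a multiplier by generators over a word. -/
def mulListZ (mg : ℕ → ℕ → Option (ℕ × List ℤ)) : List ℕ → ℕ → Option (ℕ × List ℤ)
  | [], m => some (m, [])
  | k :: ks, m =>
    match mg m k with
    | none => none
    | some (r, f) =>
      match mulListZ mg ks r with
      | none => none
      | some (r', f') => some (r', addF f f')

/-- Multiply a normal form by a generator. -/
def mulGenZ (R : ZRules) : ℕ → ℕ → ℕ → Option (ℕ × List ℤ)
  | 0, _, _ => none
  | fuel + 1, m, i =>
    if R.n ≤ i then none
    else if m >>> (i + 1) == 0 then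
      if m.testBit i then
        match mulListZ (mulGenZ R fuel) (bitsOf R.n (R.sq i).1) (m ^^^ 2 ^ i) with
        | none => none
        | some (r, f) => some (r, addF f (R.sq i).2)
      else some (m ||| 2 ^ i, [])
    else
      if i < topBit R.n m && m.testBit (topBit R.n m) then
        match mulGenZ R fuel (m ^^^ 2 ^ topBit R.n m) i with
        | none => none
        | some (r, f) =>
          match mulListZ (mulGenZ R fuel)
              (topBit R.n m :: bitsOf R.n (R.cm (topBit R.n m) i).1) r with
          | none => none
          | some (r', f') => some (r', addF (addF f f') (R.cm (topBit R.n m) i).2)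
      else none

/-- An interpretation of the rules in a group. -/
structure ZModel (R : ZRules) (E : Type*) [Group E] where
  /-- The generators. -/
  G : ℕ → E
  /-- The central tail of a form. -/
  V : List ℤ → E
  V_zero : V [] = 1
  V_add : ∀ a b, V (addF a b) = V a * V b
  V_central : ∀ a x, x * V a = V a * x
  sq_rule : ∀ i < R.n, G i * G i = ((bitsOf R.n (R.sq i).1).map G).prod * V (R.sq i).2
  cm_rule : ∀ i j, i < j → j < R.n →
    G j * G i = G i * G j * ((bitsOf R.n (R.cm j i).1).map G).prod * V (R.cm j i).2

namespace ZModel

variable {R : ZRules} {E : Type*} [Group E] (M : ZModel R E)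

/-- The value of a normal form. -/
def nf (m : ℕ) : E := ((bitsOf R.n m).map M.G).prod

lemma nf_zero : M.nf 0 = 1 := by
  simp [nf, bitsOf]

lemma nf_split {m j : ℕ} (hj : j < R.n) (hjm : m.testBit j = true)
    (habove : ∀ k, j < k → k < R.n → m.testBit k = false) :
    M.nf m = M.nf (m ^^^ 2 ^ j) * M.G j := by
  simp [nf, Cfsg.Agent.H94.Mult.Model.bitsOf_split hj hjm habove]

lemma mulListZ_spec {mg : ℕ → ℕ → Option (ℕ × List ℤ)}
    (hmg : ∀ m i r f, mg m i = some (r, f) → M.nf m * M.G i = M.nf r * M.V f) :
    ∀ (ks : List ℕ) (m r : ℕ) (f : List ℤ), mulListZ mg ks m = some (r, f) →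
      M.nf m * (ks.map M.G).prod = M.nf r * M.V f
  | [], m, r, f, h => by
    simp only [mulListZ, Option.some.injEq, Prod.mk.injEq] at h
    obtain ⟨rfl, rfl⟩ := h
    simp [M.V_zero]
  | k :: ks, m, r, f, h => by
    simp only [mulListZ] at h
    split at h
    · simp at h
    · next r₁ f₁ h₁ =>
      split at h
      · simp at h
      · next r₂ f₂ h₂ =>
        simp only [Option.some.injEq, Prod.mk.injEq] at h
        obtain ⟨rfl, rfl⟩ := h
        rw [List.map_cons, List.prod_cons, ← mul_assoc, hmg _ _ _ _ h₁, mul_assoc,
          ← M.V_central f₁ (List.prod _), ← mul_assoc, mulListZ_spec hmg ks _ _ _ h₂, mul_assoc,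
          M.V_add, M.V_central f₂ (M.V f₁)]

theorem mulGenZ_spec : ∀ (fuel m i r : ℕ) (f : List ℤ), mulGenZ R fuel m i = some (r, f) →
    M.nf m * M.G i = M.nf r * M.V f
  | 0, _, _, _, _, h => by simp [mulGenZ] at h
  | fuel + 1, m, i, r, f, h => by
    simp only [mulGenZ] at h
    split at h
    · simp at h
    next hi =>
    have hin : i < R.n := Nat.lt_of_not_le hi
    have hmg : ∀ m i r f, mulGenZ R fuel m i = some (r, f) →
        M.nf m * M.G i = M.nf r * M.V f := fun a b c d e => mulGenZ_spec fuel a b c d e
    split at h
    · next hsh =>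
      have habove : ∀ k, i < k → m.testBit k = false := by
        intro k hk
        have h0 : (m >>> (i + 1)).testBit (k - (i + 1)) = false := by
          rw [eq_of_beq hsh]; simp
        rwa [Nat.testBit_shiftRight, show i + 1 + (k - (i + 1)) = k by omega] at h0
      split at h
      · next hmi =>
        split at h
        · simp at h
        · next r₁ f₁ h₁ =>
          simp only [Option.some.injEq, Prod.mk.injEq] at h
          obtain ⟨rfl, rfl⟩ := h
          rw [M.nf_split hin hmi (fun k hk _ => habove k hk), mul_assoc, M.sq_rule i hin,
            ← mul_assoc, M.mulListZ_spec hmg _ _ _ _ h₁, mul_assoc, ← M.V_add]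
      · next hmi =>
        simp only [Option.some.injEq, Prod.mk.injEq] at h
        obtain ⟨rfl, rfl⟩ := h
        have hb : (m ||| 2 ^ i).testBit i = true := by simp [Nat.testBit_or]
        have hab : ∀ k, i < k → k < R.n → (m ||| 2 ^ i).testBit k = false := fun k hk _ => by
          rw [Nat.testBit_or, habove k hk, Nat.testBit_two_pow]; simp [hk.ne]
        rw [M.V_zero, mul_one, M.nf_split hin hb hab]
        congr 2
        apply Nat.eq_of_testBit_eq
        intro k
        rw [Nat.testBit_xor, Nat.testBit_or, Nat.testBit_two_pow]
        by_cases hk : i = k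
        · subst hk
          simp [Bool.eq_false_iff.2 hmi]
        · simp [hk]
    · split at h
      · next hj =>
        rw [Bool.and_eq_true, decide_eq_true_eq] at hj
        obtain ⟨hij, hjm⟩ := hj
        have hjn : topBit R.n m < R.n := by
          by_contra hge
          have : ∀ n, 0 < n → topBit n m < n := by
            intro n
            induction n with
            | zero => omega
            | succ n ih =>
              intro _
              rw [topBit]
              split
              · omega
              · rcases Nat.eq_zero_or_pos n with rfl | hn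
                · simp [topBit]
                · exact Nat.lt_succ_of_lt (ih hn)
          exact hge (this R.n (by omega))
        split at h
        · simp at h
        · next r₁ f₁ h₁ =>
          split at h
          · simp at h
          · next r₂ f₂ h₂ =>
            simp only [Option.some.injEq, Prod.mk.injEq] at h
            obtain ⟨rfl, rfl⟩ := h
            have e1 := hmg _ _ _ _ h₁
            have e2 := M.mulListZ_spec hmg _ _ _ _ h₂
            rw [List.map_cons, List.prod_cons] at e2
            set j := topBit R.n m
            set W := ((bitsOf R.n (R.cm j i).1).map M.G).prod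
            calc M.nf m * M.G i
                = M.nf (m ^^^ 2 ^ j) * (M.G j * M.G i) := by
                  rw [← mul_assoc, ← M.nf_split hjn hjm fun k hk hk' => topBit_above hk hk']
              _ = M.nf (m ^^^ 2 ^ j) * (M.G i * M.G j * W * M.V (R.cm j i).2) := by
                  rw [M.cm_rule i j hij hjn]
              _ = M.nf r₁ * M.V f₁ * (M.G j * W) * M.V (R.cm j i).2 := by
                  rw [← e1]; simp only [mul_assoc]
              _ = M.nf r₁ * (M.G j * W) * M.V f₁ * M.V (R.cm j i).2 := by
                  rw [mul_assoc (M.nf r₁) (M.V f₁), ← M.V_central f₁ (M.G j * W), ← mul_assoc]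
              _ = M.nf r₂ * (M.V f₁ * M.V f₂) * M.V (R.cm j i).2 := by
                  rw [e2, mul_assoc (M.nf r₂), M.V_central f₁ (M.V f₂)]
              _ = _ := by rw [mul_assoc, ← M.V_add, ← M.V_add]
      · simp at h

end ZModel

end Cfsg.Agent.H94.M22
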